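import Groth.Agent.H23.RepMod
import Groth.Agent.FlatCxLib.Structure
import Groth.Agent.QCoh.FlatExchange
import Mathlib.RingTheory.LocalRing.Module

/-!
# Lifting forms when the next cohomology of a fibre vanishes
-/

set_option autoImplicit false
set_option linter.style.haveILetI false
set_option maxHeartbeats 1000000

universe u

open CategoryTheory CategoryTheory.Limits TensorProduct

namespace Groth.Agent.SeesawGen

open Groth.Agent Groth.Agent.H23

section Split

variable {R : Type u} [CommRing R] [IsLocalRing R]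

/-- If a complex of free modules is exact after reduction, then the first map has a kernel projection reducing to the
identity on the kernel of the reduction. -/
theorem exists_kerProj {W E F : Type u} [AddCommGroup W] [Module R W] [AddCommGroup E] [Module R E] [AddCommGroup F]
    [Module R F] [Module.Finite R W] [Module.Finite R E] [Module.Free R E] [Module.Finite R F] [Module.Free R F]
    (f : W →ₗ[R] E) (g : E →ₗ[R] F) (hgf : g ∘ₗ f = 0)
    (hex : Function.Exact (f.lTensor (IsLocalRing.ResidueField R)) (g.lTensor (IsLocalRing.ResidueField R))) :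
    ∃ p : W →ₗ[R] W, f ∘ₗ p = 0 ∧ ∀ ξ, f.lTensor (IsLocalRing.ResidueField R) ξ = 0 →
      p.lTensor (IsLocalRing.ResidueField R) ξ = ξ := by
  let N := LinearMap.range f
  let C := E ⧸ N
  let gb : C →ₗ[R] F := N.liftQ g fun y ⟨w, hw⟩ => by
    subst hw
    exact LinearMap.congr_fun hgf w
  have hinj : Function.Injective (gb.lTensor (IsLocalRing.ResidueField R)) := by
    refine (injective_iff_map_eq_zero _).2 fun z hz => ?_
    obtain ⟨y, rfl⟩ := LinearMap.lTensor_surjective _ N.mkQ_surjective z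
    rw [← LinearMap.comp_apply, ← LinearMap.lTensor_comp, N.liftQ_mkQ] at hz
    obtain ⟨w, rfl⟩ := (hex y).1 hz
    rw [← LinearMap.comp_apply, ← LinearMap.lTensor_comp,
      show N.mkQ ∘ₗ f = 0 from LinearMap.range_mkQ_comp f, LinearMap.lTensor_zero, LinearMap.zero_apply]
  obtain ⟨l, hl⟩ := (IsLocalRing.split_injective_iff_lTensor_residueField_injective gb).2 hinj
  haveI : Module.Projective R C := Module.Projective.of_split gb l hl
  obtain ⟨c, hc⟩ := Module.projective_lifting_property N.mkQ LinearMap.id N.mkQ_surjective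
  let r : E →ₗ[R] N := (LinearMap.id - c ∘ₗ N.mkQ).codRestrict N fun y => by
    refine (Submodule.Quotient.mk_eq_zero N).1 ?_
    show N.mkQ (y - c (N.mkQ y)) = 0
    rw [map_sub, show N.mkQ (c (N.mkQ y)) = N.mkQ y from LinearMap.congr_fun hc _, sub_self]
  have hr : ∀ n : N, r n.1 = n := fun n => Subtype.ext (by
    show n.1 - c (N.mkQ n.1) = n.1
    rw [show N.mkQ n.1 = 0 from (Submodule.Quotient.mk_eq_zero N).2 n.2, map_zero, sub_zero])
  haveI : Module.Projective R N := Module.Projective.of_split N.subtype r (LinearMap.ext hr)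
  obtain ⟨s, hs⟩ := Module.projective_lifting_property f.rangeRestrict (LinearMap.id : N →ₗ[R] N)
    f.surjective_rangeRestrict
  refine ⟨LinearMap.id - s ∘ₗ r ∘ₗ f, LinearMap.ext fun w => ?_, fun ξ hξ => ?_⟩
  · show f (w - s (r (f w))) = 0
    rw [map_sub, show f (s (r (f w))) = (r (f w)).1 from congrArg Subtype.val (LinearMap.congr_fun hs _),
      show r (f w) = ⟨f w, w, rfl⟩ from hr ⟨f w, w, rfl⟩, sub_self]
  · rw [LinearMap.lTensor_sub, LinearMap.sub_apply, LinearMap.lTensor_id, LinearMap.id_apply, LinearMap.lTensor_comp,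
      LinearMap.lTensor_comp, LinearMap.comp_apply, LinearMap.comp_apply, hξ, map_zero, map_zero, sub_zero]

end Split

variable {A : Type u} [CommRing A]

theorem exists_ker_lift {W E F : Type u} [AddCommGroup W] [Module A W] [AddCommGroup E] [Module A E] [AddCommGroup F]
    [Module A F] [Module.Finite A W] [Module.Finite A E] [Module.Free A E] [Module.Finite A F] [Module.Free A F]
    (f : W →ₗ[A] E) (g : E →ₗ[A] F) (hgf : g ∘ₗ f = 0) (x : PrimeSpectrum A)
    (hex : Function.Exact (f.lTensor x.asIdeal.ResidueField) (g.lTensor x.asIdeal.ResidueField))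
    {ξ : x.asIdeal.ResidueField ⊗[A] W} (hξ : f.lTensor x.asIdeal.ResidueField ξ = 0) (hξ0 : ξ ≠ 0) :
    ∃ w : W, f w = 0 ∧ (1 : x.asIdeal.ResidueField) ⊗ₜ[A] w ≠ 0 := by
  let R := Localization.AtPrime x.asIdeal
  let k := x.asIdeal.ResidueField
  let eW := AlgebraTensorModule.cancelBaseChange A R R k W
  let eE := AlgebraTensorModule.cancelBaseChange A R R k E
  let eF := AlgebraTensorModule.cancelBaseChange A R R k F
  have hcomm : ∀ {M N : Type u} [AddCommGroup M] [Module A M] [AddCommGroup N] [Module A N] (h : M →ₗ[A] N)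
      (z : k ⊗[R] (R ⊗[A] M)), AlgebraTensorModule.cancelBaseChange A R R k N ((h.baseChange R).lTensor k z) =
        h.lTensor k (AlgebraTensorModule.cancelBaseChange A R R k M z) := by
    intro M N _ _ _ _ h z
    induction z using TensorProduct.induction_on with
    | zero => simp
    | add a b ha hb => simp [ha, hb]
    | tmul c m =>
      induction m using TensorProduct.induction_on with
      | zero => simp
      | add a b ha hb =>
        simp only [LinearMap.lTensor_tmul] at ha hb
        simp [TensorProduct.tmul_add, ha, hb]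
      | tmul r m => simp
  obtain ⟨p, hp0, hp1⟩ := exists_kerProj (f.baseChange R) (g.baseChange R)
    (by rw [← LinearMap.baseChange_comp, hgf, LinearMap.baseChange_zero]) fun z => by
      constructor
      · intro hz
        obtain ⟨y, hy⟩ := (hex (eE z)).1 (by rw [← hcomm, show LinearMap.lTensor k _ z = 0 from hz, map_zero])
        refine ⟨eW.symm y, eE.injective ?_⟩
        exact (hcomm f _).trans ((congrArg _ (eW.apply_symm_apply y)).trans hy)
      · rintro ⟨y, rfl⟩
        refine eF.injective ?_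
        rw [map_zero]
        exact (hcomm g _).trans ((congrArg _ (hcomm f y)).trans (hex.apply_apply_eq_zero _))
  have h1 := hp1 (eW.symm ξ) (eE.injective (by
    rw [map_zero]
    exact (hcomm f _).trans ((congrArg _ (eW.apply_symm_apply ξ)).trans hξ)))
  have hw : ∃ y : R ⊗[A] W, f.baseChange R y = 0 ∧ eW ((1 : k) ⊗ₜ[R] y) ≠ 0 := by
    by_contra! hne
    refine hξ0 ?_
    rw [← eW.apply_symm_apply ξ, ← h1]
    generalize eW.symm ξ = z
    induction z using TensorProduct.induction_on with
    | zero => simp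
    | add a b ha hb => simp [ha, hb]
    | tmul c y =>
      rw [LinearMap.lTensor_tmul, show c ⊗ₜ[R] p y = c • ((1 : k) ⊗ₜ[R] p y) by
        rw [TensorProduct.smul_tmul', smul_eq_mul, mul_one]]
      have h := hne (p y) (LinearMap.congr_fun hp0 y)
      have hl : ∀ (c : k) (v : k ⊗[R] (R ⊗[A] W)), eW (c • v) = c • eW v := by
        intro c v
        induction v using TensorProduct.induction_on with
        | zero => simp
        | add a b ha hb => simp [ha, hb]
        | tmul d m =>
          induction m using TensorProduct.induction_on with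
          | zero => simp
          | add a b ha hb => simp [TensorProduct.tmul_add, ha, hb]
          | tmul r m => simp [eW, TensorProduct.smul_tmul', mul_smul_comm]
      rw [hl, h, smul_zero]
  obtain ⟨y, hy, hy0⟩ := hw
  let mW := TensorProduct.mk A R W 1
  haveI : IsLocalizedModule x.asIdeal.primeCompl mW :=
    (isLocalizedModule_iff_isBaseChange x.asIdeal.primeCompl R _).2 (TensorProduct.isBaseChange A W R)
  haveI : IsLocalizedModule x.asIdeal.primeCompl (TensorProduct.mk A R E 1) :=
    (isLocalizedModule_iff_isBaseChange x.asIdeal.primeCompl R _).2 (TensorProduct.isBaseChange A E R)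
  obtain ⟨⟨w, s⟩, hws⟩ := IsLocalizedModule.surj x.asIdeal.primeCompl mW y
  have hfw : TensorProduct.mk A R E 1 (f w) = TensorProduct.mk A R E 1 0 := by
    rw [map_zero]
    show (1 : R) ⊗ₜ[A] f w = 0
    rw [← LinearMap.baseChange_tmul, ← show (s : A) • y = (1 : R) ⊗ₜ[A] w from hws, LinearMap.map_smul_of_tower, hy,
      smul_zero]
  obtain ⟨t, ht⟩ := IsLocalizedModule.exists_of_eq (S := x.asIdeal.primeCompl) hfw
  refine ⟨(t : A) • w, by rw [map_smul]; simpa [Submonoid.smul_def] using ht, ?_⟩
  rw [TensorProduct.tmul_smul]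
  have hu : ∀ a : x.asIdeal.primeCompl, algebraMap A k a.1 ≠ 0 := fun a h =>
    a.2 ((Ideal.algebraMap_residueField_eq_zero).1 h)
  have h2 : (1 : k) ⊗ₜ[A] w = (s : A) • eW ((1 : k) ⊗ₜ[R] y) := by
    have h3 : eW ((1 : k) ⊗ₜ[R] ((1 : R) ⊗ₜ[A] w)) = (1 : k) ⊗ₜ[A] w := by simp [eW]
    rw [← h3, ← show (s : A) • y = (1 : R) ⊗ₜ[A] w from hws, TensorProduct.tmul_smul]
    exact LinearMap.map_smul_of_tower eW.toLinearMap _ _
  rw [h2, ← algebraMap_smul k (t : A), ← algebraMap_smul k (s : A), smul_smul]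
  exact smul_ne_zero (mul_ne_zero (hu t) (hu s)) hy0

/-- A form with values in a field lifts up to a nonzero constant when the dual complex is exact there. -/
theorem exists_form_of_exact {W E F : Type u} [AddCommGroup W] [Module A W] [Module.Finite A W] [Module.Projective A W]
    [AddCommGroup E] [Module A E] [Module.Finite A E] [Module.Free A E]
    [AddCommGroup F] [Module A F] [Module.Finite A F] [Module.Free A F]
    (f : W →ₗ[A] E) (g : E →ₗ[A] F) (hgf : g ∘ₗ f = 0) (x : PrimeSpectrum A)
    (hex : Function.Exact (f.rTensor x.asIdeal.ResidueField) (g.rTensor x.asIdeal.ResidueField))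
    {ψ : RepMod.Q f →ₗ[A] x.asIdeal.ResidueField} (hψ : ψ ≠ 0) :
    ∃ φ : RepMod.Q f →ₗ[A] A, Algebra.linearMap A x.asIdeal.ResidueField ∘ₗ φ ≠ 0 := by
  obtain ⟨e, he⟩ := RepMod.exists_equiv_ker f
  let k := x.asIdeal.ResidueField
  let z := (e k ψ).1
  have hz : z ≠ 0 := fun h => hψ ((e k).injective (Subtype.ext (h.trans (by rw [map_zero]; rfl))))
  have hcm : ∀ {M N : Type u} [AddCommGroup M] [Module A M] [AddCommGroup N] [Module A N] (h : M →ₗ[A] N)
      (v : M ⊗[A] k), TensorProduct.comm A N k (h.rTensor k v) = h.lTensor k (TensorProduct.comm A M k v) := by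
    intro M N _ _ _ _ h v
    induction v using TensorProduct.induction_on with
    | zero => simp
    | add a b ha hb => simp [ha, hb]
    | tmul m c => simp
  have hexl : Function.Exact (f.lTensor k) (g.lTensor k) := fun v => by
    constructor
    · intro hv
      obtain ⟨y, hy⟩ := (hex ((TensorProduct.comm A E k).symm v)).1 ((TensorProduct.comm A F k).injective (by
        rw [hcm, LinearEquiv.apply_symm_apply, map_zero]; exact hv))
      exact ⟨TensorProduct.comm A W k y, by rw [← hcm, hy, LinearEquiv.apply_symm_apply]⟩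
    · rintro ⟨y, rfl⟩
      rw [← LinearMap.comp_apply, ← LinearMap.lTensor_comp, hgf, LinearMap.lTensor_zero, LinearMap.zero_apply]
  obtain ⟨w, hw, hw0⟩ := exists_ker_lift f g hgf x hexl (ξ := TensorProduct.comm A W k z)
    (by rw [← hcm, LinearMap.mem_ker.1 (e k ψ).2, map_zero])
    (fun h => hz ((TensorProduct.comm A W k).injective (h.trans (map_zero _).symm)))
  refine ⟨(e A).symm ⟨w ⊗ₜ[A] 1, by
    rw [LinearMap.mem_ker, LinearMap.rTensor_tmul, hw, TensorProduct.zero_tmul]⟩, fun h => hw0 ?_⟩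
  have h' := he A k (Algebra.linearMap A k) ((e A).symm ⟨w ⊗ₜ[A] 1, by
    rw [LinearMap.mem_ker, LinearMap.rTensor_tmul, hw, TensorProduct.zero_tmul]⟩)
  rw [h, map_zero, LinearEquiv.apply_symm_apply] at h'
  have h'' := congrArg (TensorProduct.comm A W k) h'.symm
  simpa using h''

variable [IsNoetherianRing A]

/-- A corepresenting module for degree zero whose forms lift at points where degree one vanishes. -/
theorem exists_repMod_lift (C : CochainComplex (ModuleCat.{u} A) ℕ) (hflat : ∀ n, Module.Flat A (C.X n))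
    (hfin : ∀ n, Module.Finite A (C.homology n)) (b : ℕ)
    (hvan : ∀ (M : ModuleCat.{u} A) (n : ℕ), b ≤ n → (CohIII.tensorObj C M).ExactAt n) :
    ∃ (P : ChainComplex (ModuleCat.{u} A) ℤ) (Q : ModuleCat.{u} A) (_ : Module.Finite A Q)
      (e : ∀ (M : Type u) [AddCommGroup M] [Module A M],
        (Q →ₗ[A] M) ≃ₗ[A] LinearMap.ker ((C.d 0 1).hom.rTensor M)),
      (∀ (M N : Type u) [AddCommGroup M] [Module A M] [AddCommGroup N] [Module A N] (g : M →ₗ[A] N)
        (φ : Q →ₗ[A] M), (e N (g ∘ₗ φ)).1 = g.lTensor (C.X 0) (e M φ).1) ∧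
      (∀ p : ℕ, Nonempty (CohIII.TFun P (-(p : ℤ)) ≅ CohIII.TFun C p)) ∧
      ∀ x : PrimeSpectrum A,
        Subsingleton (CohIII.T P (-1 : ℤ) (ModuleCat.of A x.asIdeal.ResidueField)) →
          (∃ ψ : Q →ₗ[A] x.asIdeal.ResidueField, ψ ≠ 0) →
            ∃ φ : Q →ₗ[A] A, Algebra.linearMap A x.asIdeal.ResidueField ∘ₗ φ ≠ 0 := by
  obtain ⟨L, hL, -, h3, -⟩ := QCoh.FlatModel.exists_finiteFree C hflat hfin b hvan
  let P := QCoh.revCx L
  have hpn : ∀ p : ℕ, Nonempty (CohIII.TFun P (-(p : ℤ)) ≅ CohIII.TFun C p) := fun p => by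
    obtain ⟨α⟩ := h3 p
    obtain ⟨β⟩ := QCoh.nonempty_tfun_revCx L (-(p : ℤ))
    exact ⟨β ≪≫ eqToIso (congrArg (fun i => CohIII.TFun L i) (neg_neg (p : ℤ))) ≪≫ α⟩
  obtain ⟨γ⟩ : Nonempty (CohIII.TFun P (0 : ℤ) ≅ CohIII.TFun C 0) := by simpa using hpn 0
  have hfree : ∀ i, Module.Free A (P.X i) := fun i => (hL _).2
  have hfinP : ∀ i, Module.Finite A (P.X i) := fun i => (hL _).1
  have hP : ∀ i, Module.Flat A (P.X i) := fun i => @Module.Flat.of_free _ _ _ _ _ (hfree i)
  haveI := RepMod.preservesMono C (hflat 0)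
  have hW : Module.Flat A (FlatCxLib.Coker P 1 0) :=
    (FlatCxLib.preservesMono_iff hP (show (0 : ℤ) + 1 = 1 by norm_num)).1
      (Functor.PreservesMonomorphisms.of_iso γ.symm)
  haveI := hfinP 0
  haveI := hfinP (-1)
  haveI := hfinP (-2)
  haveI := hfree (-1)
  haveI := hfree (-2)
  haveI : Module.Projective A (FlatCxLib.Coker P 1 0) := by
    haveI := Module.finitePresentation_of_finite A (FlatCxLib.Coker P 1 0)
    exact Module.Flat.projective_of_finitePresentation
  obtain ⟨e₁, he₁⟩ := RepMod.exists_equiv_ker (RepMod.desc P)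
  refine ⟨P, ModuleCat.of A (RepMod.Q (RepMod.desc P)), inferInstanceAs (Module.Finite A (RepMod.Q (RepMod.desc P))),
    fun M _ _ => (e₁ M).trans ((RepMod.equivT P (ModuleCat.of A M)).trans
      ((γ.app (ModuleCat.of A M)).toLinearEquiv.trans (RepMod.kerEquivT C (ModuleCat.of A M)).symm)),
    fun M N _ _ _ _ g φ => ?_, hpn, fun x hx ⟨ψ, hψ⟩ => ?_⟩
  · let g' : ModuleCat.of A M ⟶ ModuleCat.of A N := ModuleCat.ofHom g
    have h1 := RepMod.equivT_natural P g' (e₁ M φ) (e₁ N (g ∘ₗ φ)) (he₁ M N g φ)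
    let tM := (γ.app (ModuleCat.of A M)).toLinearEquiv (RepMod.equivT P (ModuleCat.of A M) (e₁ M φ))
    have h2 : (γ.app (ModuleCat.of A N)).toLinearEquiv (RepMod.equivT P (ModuleCat.of A N) (e₁ N (g ∘ₗ φ))) =
        ((CohIII.TFun C 0).map g').hom tM := by
      rw [h1]
      exact ConcreteCategory.congr_hom (γ.hom.naturality g') _
    let yM := (RepMod.kerEquivT C (ModuleCat.of A M)).symm tM
    have hy : (C.d 0 1).hom.rTensor N (g.lTensor (C.X 0) yM.1) = 0 :=
      FlatCxLib.cycle_map (CohIII.tensorMap C g') yM.1 yM.2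
    have h3 := RepMod.kerEquivT_natural C g' yM ⟨g.lTensor (C.X 0) yM.1, hy⟩ rfl
    rw [LinearEquiv.apply_symm_apply, ← h2] at h3
    exact congrArg Subtype.val ((LinearEquiv.symm_apply_eq _).2 h3.symm)
  · let k := ModuleCat.of A x.asIdeal.ResidueField
    let g₁ := (P.d (-1) (-2)).hom
    have hcomp : RepMod.desc P ∘ₗ (LinearMap.range (P.d 1 0).hom).mkQ = (P.d 0 (-1)).hom :=
      Submodule.liftQ_mkQ _ _ _
    have hgf : g₁ ∘ₗ RepMod.desc P = 0 := Submodule.linearMap_qext _ (by
      rw [LinearMap.comp_assoc, hcomp, LinearMap.zero_comp, ← ModuleCat.hom_comp, P.d_comp_d]; rfl)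
    refine exists_form_of_exact (RepMod.desc P) g₁ hgf x (fun v => ⟨fun hv => ?_, ?_⟩) hψ
    · obtain ⟨y, hy⟩ := (FlatCxLib.cls_eq_zero_iff (K := CohIII.tensorObj P k)
        (FlatCxLib.prev_down (show (-1 : ℤ) + 1 = 0 by norm_num))
        (FlatCxLib.next_down (show (-2 : ℤ) + 1 = -1 by norm_num)) v hv).1 (@Subsingleton.elim _ hx _ _)
      refine ⟨((LinearMap.range (P.d 1 0).hom).mkQ.rTensor x.asIdeal.ResidueField) y, ?_⟩
      rw [← LinearMap.comp_apply, ← LinearMap.rTensor_comp, hcomp]
      exact hy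
    · rintro ⟨y, rfl⟩
      rw [← LinearMap.comp_apply, ← LinearMap.rTensor_comp, hgf, LinearMap.rTensor_zero, LinearMap.zero_apply]

end Groth.Agent.SeesawGen
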