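import Groth.Agent.H23.SecRep
import Groth.Agent.SeesawGen.RepLift
import Groth.Agent.QCoh.FlatFibre
import Groth.Agent.CohPullLib.SectPull

/-!
# Naturality of the corepresentation of sections

The forms on the corepresenting module give the sections after a base change naturally in the base algebra.
-/

set_option autoImplicit false
set_option linter.style.haveILetI false
set_option backward.isDefEq.respectTransparency false
set_option backward.isDefEq.respectTransparency.types false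
set_option maxHeartbeats 2000000

universe u

open CategoryTheory CategoryTheory.Limits AlgebraicGeometry TopologicalSpace Opposite TensorProduct

noncomputable section

namespace Groth.Agent.SeesawGen

open Groth.Agent Groth.Agent.QCoh Groth.Agent.H23 Groth.Agent.H23.SecRep

variable {A : Type u} [CommRing A] [IsNoetherianRing A] {X : Scheme.{u}} [X.Over (Spec (CommRingCat.of A))]
  [IsProper (X ↘ Spec (CommRingCat.of A))]

/-- One family of identifications of the sections after all base changes with the forms on a finite module, natural in the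
algebra. -/
theorem exists_rep_nat (F : X.Modules) (hF : Coh.IsCoh F)
    (hfl : FlatMod.IsFlatOver (X ↘ Spec (CommRingCat.of A)) F) :
    ∃ (Q : ModuleCat.{u} A) (_ : Module.Finite A Q)
      (ε : ∀ (B : Type u) [CommRing B] [Algebra A B] (X' : Scheme.{u}) (φ : X' ⟶ X)
        (pB : X' ⟶ Spec (CommRingCat.of B)),
        IsPullback φ pB (X ↘ Spec (CommRingCat.of A)) (Spec.map (CommRingCat.ofHom (algebraMap A B))) →
          ((Q →ₗ[A] B) ≃+ Γ((Scheme.Modules.pullback φ).obj F, ⊤))),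
      (∀ (B : Type u) [CommRing B] [Algebra A B] (X' : Scheme.{u}) (φ : X' ⟶ X)
        (pB : X' ⟶ Spec (CommRingCat.of B)) (hpb) (b : B) (f : Q →ₗ[A] B),
          ε B X' φ pB hpb (LinearMap.mulLeft A b ∘ₗ f) =
            (show Γ(X', ⊤) from Coh.toGlobal pB b) • ε B X' φ pB hpb f) ∧
      (∀ (B B' : Type u) [CommRing B] [Algebra A B] [CommRing B'] [Algebra A B'] (g : B →ₐ[A] B')
        (X' X'' : Scheme.{u}) (t : X'' ⟶ X') (φ : X' ⟶ X) (pB : X' ⟶ Spec (CommRingCat.of B))
        (pB' : X'' ⟶ Spec (CommRingCat.of B')) (hpb) (hpb'),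
        t ≫ pB = pB' ≫ Spec.map (CommRingCat.ofHom g.toRingHom) → ∀ f : Q →ₗ[A] B,
          ε B' X'' (t ≫ φ) pB' hpb' (g.toLinearMap ∘ₗ f) =
            ((Scheme.Modules.pullbackComp t φ).hom.app F).app ⊤ (InvX.pullElt t (ε B X' φ pB hpb f))) ∧
      ∀ (K : Type u) [Field K] [Algebra A K] (X' : Scheme.{u}) (φ : X' ⟶ X)
        (pB : X' ⟶ Spec (CommRingCat.of K)),
        IsPullback φ pB (X ↘ Spec (CommRingCat.of A)) (Spec.map (CommRingCat.ofHom (algebraMap A K))) →
          Subsingleton (Coh.HH X' ((Scheme.Modules.pullback φ).obj F) 1) → (∃ ψ : Q →ₗ[A] K, ψ ≠ 0) →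
            ∃ f : Q →ₗ[A] A, Algebra.linearMap A K ∘ₗ f ≠ 0 := by
  haveI : CompactSpace X := QuasiCompact.compactSpace_of_compactSpace (X ↘ Spec (CommRingCat.of A))
  haveI : X.IsSeparated := ⟨by
    rw [← Limits.terminal.comp_from (X ↘ Spec (CommRingCat.of A))]
    infer_instance⟩
  have hq : Coh.IsQCoh F := hF.1
  obtain ⟨ι, _, U, hcov, hU⟩ := exists_affine_cover (X := X)
  obtain ⟨d, hd⟩ := exists_HH_bound (X := X)
  have hfin : ∀ p, Module.Finite A ((cechA (A := A) F U).homology p) := fun p => by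
    have hf : Module.Finite A (Coh.HH X F p) := Groth.Agent.S0002.result A X F hF p
    obtain ⟨e⟩ := cxMod_homology_equiv (Coh.toGlobal (X ↘ Spec (CommRingCat.of A))) U hcov hU hq p
    exact @Module.Finite.equiv _ _ _ _ _ _ _ _ hf e.symm
  obtain ⟨P, Q, hQ, eQ, hnat, hpn, hlift⟩ := exists_repMod_lift (cechA (A := A) F U) (flat_cechA F hq hfl hU) hfin d
    fun M p hp => by
      obtain ⟨e⟩ := nonempty_tfun_iso (A := A) F hq hcov hU p
      rw [HomologicalComplex.exactAt_iff_isZero_homology, ModuleCat.isZero_iff_subsingleton]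
      have : Subsingleton (Coh.HH X (tA F M) p) := hd _ (isQCoh_tA F hq M) p hp
      exact (e.app M).addCommGroupIsoToAddEquiv.toEquiv.subsingleton_congr.2 this
  let ρ := Coh.toGlobal (X ↘ Spec (CommRingCat.of A))
  have main : ∀ (B : Type u) [CommRing B] [Algebra A B] (X' : Scheme.{u}) (φ : X' ⟶ X)
      (pB : X' ⟶ Spec (CommRingCat.of B))
      (hpb : IsPullback φ pB (X ↘ Spec (CommRingCat.of A)) (Spec.map (CommRingCat.ofHom (algebraMap A B)))),
      ∃ eB : (Q →ₗ[A] B) ≃+ Γ((Scheme.Modules.pullback φ).obj F, ⊤),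
        (∀ (b : B) (f : Q →ₗ[A] B), eB (LinearMap.mulLeft A b ∘ₗ f) =
          (show Γ(X', ⊤) from Coh.toGlobal pB b) • eB f) ∧
        ∀ f, glob (Coh.toGlobal pB) (fun i => φ ⁻¹ᵁ U i) ((Scheme.Modules.pullback φ).obj F) (eB f) =
          cxBC ρ (Coh.toGlobal pB) φ (toGlobal_comm (X ↘ Spec (CommRingCat.of A)) pB φ hpb.w) U
            ((Scheme.Modules.pullbackPushforwardAdjunction φ).unit.app F) 0 (eQ B f).1 := by
    intro B _ _ X' φ pB hpb
    let η : F ⟶ (Scheme.Modules.pushforward φ).obj ((Scheme.Modules.pullback φ).obj F) :=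
      (Scheme.Modules.pullbackPushforwardAdjunction φ).unit.app F
    let U' := fun i => φ ⁻¹ᵁ U i
    let F' := (Scheme.Modules.pullback φ).obj F
    let ρ' := Coh.toGlobal pB
    have hρ := toGlobal_comm (X ↘ Spec (CommRingCat.of A)) pB φ hpb.w
    have hcov' : ⨆ i, U' i = ⊤ := by rw [← Scheme.Hom.preimage_iSup, hcov]; rfl
    have hbc : IsBC ρ ρ' U φ η hρ := by
      intro p σ W hW h
      obtain rfl : W = φ ⁻¹ᵁ ⨅ a, U (σ a) := by
        rw [hW]
        ext1
        simp [Opens.coe_iInf, Set.preimage_iInter]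
      exact isAffineBC_of_isPullback hpb hq _ (hU σ)
    let Φ := fun p => AddEquiv.ofBijective _ (cxBC_bijective ρ ρ' φ hρ U η hbc p)
    let gl' : Γ(F', ⊤) →+ LinearMap.ker (((cechA (A := A) F U).d 0 1).hom.rTensor B) :=
      AddMonoidHom.mk' (fun x => ⟨(Φ 0).symm (glob ρ' U' F' x), (Φ 1).injective (by
          show cxBC ρ ρ' φ hρ U η (0 + 1) _ = cxBC ρ ρ' φ hρ U η (0 + 1) 0
          rw [← cxBC_d, map_zero]
          show (cxMod ρ' U' F').d 0 1 (Φ 0 ((Φ 0).symm _)) = 0
          rw [AddEquiv.apply_symm_apply]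
          exact glob_mem ρ' U' F' x)⟩)
        fun x y => Subtype.ext ((congrArg (Φ 0).symm (glob_add ρ' U' F' x y)).trans (map_add _ _ _))
    have hgl' : Function.Bijective gl' := by
      refine ⟨fun x y h => glob_injective ρ' U' F' hcov' ((Φ 0).symm.injective (congrArg Subtype.val h)),
        fun z => ?_⟩
      obtain ⟨x, hx⟩ := exists_glob ρ' U' F' hcov' (Φ 0 z.1) ((cxBC_d ρ ρ' φ hρ U η 0 z.1).trans (by
        rw [show ((cxMod ρ U F).d 0 (0 + 1)).hom.rTensor B z.1 = 0 from LinearMap.mem_ker.1 z.2, map_zero]))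
      refine ⟨x, Subtype.ext ?_⟩
      show (Φ 0).symm (glob ρ' U' F' x) = z.1
      rw [hx, AddEquiv.symm_apply_apply]
    let eB : (Q →ₗ[A] B) ≃+ Γ(F', ⊤) := (eQ B).toAddEquiv.trans (AddEquiv.ofBijective gl' hgl').symm
    have key : ∀ f, glob ρ' U' F' (eB f) = cxBC ρ ρ' φ hρ U η 0 (eQ B f).1 := by
      intro f
      have h : gl' (eB f) = eQ B f := (AddEquiv.ofBijective gl' hgl').apply_symm_apply _
      exact ((Φ 0).apply_symm_apply _).symm.trans (congrArg (fun z => Φ 0 z.1) h)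
    refine ⟨eB, fun b f => glob_injective ρ' U' F' hcov' ?_, key⟩
    rw [key, glob_smul, key, hnat]
    exact cxBC_mul ρ ρ' φ hρ U η 0 b _
  have hext : ∀ (K : Type u) [Field K] [Algebra A K] (X' : Scheme.{u}) (φ : X' ⟶ X)
      (pB : X' ⟶ Spec (CommRingCat.of K)),
      IsPullback φ pB (X ↘ Spec (CommRingCat.of A)) (Spec.map (CommRingCat.ofHom (algebraMap A K))) →
        Subsingleton (Coh.HH X' ((Scheme.Modules.pullback φ).obj F) 1) → (∃ ψ : Q →ₗ[A] K, ψ ≠ 0) →
          ∃ f : Q →ₗ[A] A, Algebra.linearMap A K ∘ₗ f ≠ 0 := by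
    intro K _ _ X' φ pB hpb hH ⟨ψ, hψ⟩
    let x : PrimeSpectrum A := ⟨RingHom.ker (algebraMap A K), RingHom.ker_isPrime _⟩
    haveI : x.asIdeal.IsPrime := x.isPrime
    let κ := x.asIdeal.ResidueField
    have h2 : x.asIdeal.primeCompl ≤ (IsUnit.submonoid K).comap (algebraMap A K) :=
      fun a ha => isUnit_iff_ne_zero.2 fun h => ha h
    let ι : κ →+* K := Ideal.ResidueField.lift x.asIdeal (algebraMap A K) le_rfl h2
    letI : Algebra κ K := ι.toAlgebra
    haveI : IsScalarTower A κ K := IsScalarTower.of_algebraMap_eq fun a =>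
      (Ideal.ResidueField.lift_algebraMap (I := x.asIdeal) (algebraMap A K) le_rfl h2 a).symm
    obtain ⟨r, hr⟩ := (Algebra.linearMap κ K).exists_leftInverse_of_injective
      (LinearMap.ker_eq_bot.2 ι.injective)
    letI : X'.Over (Spec (CommRingCat.of K)) := ⟨pB⟩
    have hP' : ∀ p : ℕ, Nonempty (CohIII.TFun P (-(p : ℤ)) ⋙ forget₂ (ModuleCat.{u} A) AddCommGrpCat.{u} ≅
        CohIII.tensorAFunctor A F ⋙ CohIII.HAb X p) := fun p => by
      obtain ⟨e⟩ := hpn p
      obtain ⟨e'⟩ := nonempty_tfun_iso (A := A) F hq hcov hU p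
      exact ⟨Functor.isoWhiskerRight e _ ≪≫ e'⟩
    obtain ⟨l⟩ := bcCx_isBCModel_aux hq P hP' (algebraMap A K) φ hpb 1
    obtain ⟨eb⟩ := nonempty_bcT_iso P (algebraMap A K) (-1 : ℤ)
    let C' := CohIII.bcCx (algebraMap A K) P
    haveI : Subsingleton (C'.homology (-1 : ℤ)) := @Equiv.subsingleton _ _ l.symm.toEquiv hH
    haveI : Subsingleton ((CohIII.TFun C' (-1 : ℤ)).obj (ModuleCat.of K K)) :=
      (FlatCxLib.tUnitIso (P := C') (-1 : ℤ)).toLinearEquiv.toEquiv.subsingleton
    let rs := (ModuleCat.restrictScalars (algebraMap A K)).obj (ModuleCat.of K K)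
    let j : rs ≅ ModuleCat.of A K :=
      LinearEquiv.toModuleIso
        (show (rs : Type u) ≃ₗ[A] (ModuleCat.of A K : Type u) from
          { toFun := fun z => z, invFun := fun z => z, left_inv := fun _ => rfl, right_inv := fun _ => rfl,
            map_add' := fun _ _ => rfl,
            map_smul' := fun a z => ((Algebra.smul_def a (show K from z)).trans rfl).symm })
    have h3 : IsZero ((forget₂ (ModuleCat.{u} A) AddCommGrpCat.{u}).obj ((CohIII.TFun P (-1 : ℤ)).obj rs)) :=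
      (Functor.map_isZero (forget₂ (ModuleCat.{u} K) AddCommGrpCat.{u})
        (ModuleCat.isZero_of_subsingleton _)).of_iso (eb.app _).symm
    haveI : Subsingleton ((CohIII.TFun P (-1 : ℤ)).obj rs) := AddCommGrpCat.subsingleton_of_isZero h3
    haveI : Subsingleton ((CohIII.TFun P (-1 : ℤ)).obj (ModuleCat.of A K)) :=
      ((CohIII.TFun P (-1 : ℤ)).mapIso j).toLinearEquiv.symm.toEquiv.subsingleton
    let i₁ : ModuleCat.of A κ ⟶ ModuleCat.of A K := ModuleCat.ofHom ((Algebra.linearMap κ K).restrictScalars A)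
    let π₁ : ModuleCat.of A K ⟶ ModuleCat.of A κ := ModuleCat.ofHom (r.restrictScalars A)
    have hiπ : i₁ ≫ π₁ = 𝟙 _ := ModuleCat.hom_ext (LinearMap.ext fun c => LinearMap.congr_fun hr c)
    haveI : Subsingleton ((CohIII.TFun P (-1 : ℤ)).obj (ModuleCat.of A κ)) := ⟨fun u v => by
      have hsplit : ∀ w, ((CohIII.TFun P (-1 : ℤ)).map π₁).hom (((CohIII.TFun P (-1 : ℤ)).map i₁).hom w) = w :=
        fun w => by rw [← ConcreteCategory.comp_apply, ← CategoryTheory.Functor.map_comp, hiπ, CategoryTheory.Functor.map_id]; rfl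
      rw [← hsplit u, ← hsplit v]
      exact congrArg _ (Subsingleton.elim _ _)⟩
    obtain ⟨q, hq0⟩ := DFunLike.ne_iff.1 hψ
    obtain ⟨f, hf⟩ := hlift x ‹_› ⟨r.restrictScalars A ∘ₗ LinearMap.mulLeft A (ψ q)⁻¹ ∘ₗ ψ, fun h => by
      have h1 := LinearMap.congr_fun h q
      simp only [LinearMap.comp_apply, LinearMap.mulLeft_apply, LinearMap.zero_apply] at h1
      rw [inv_mul_cancel₀ (show ψ q ≠ 0 from hq0)] at h1
      have h2 := LinearMap.congr_fun hr (1 : κ)
      rw [LinearMap.comp_apply, Algebra.linearMap_apply, map_one] at h2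
      exact one_ne_zero (h2.symm.trans h1)⟩
    refine ⟨f, fun h => hf (LinearMap.ext fun q => ι.injective ?_)⟩
    refine Eq.trans ?_ (map_zero ι).symm
    exact ((IsScalarTower.algebraMap_apply A κ K _).symm).trans (LinearMap.congr_fun h q)
  refine ⟨Q, hQ, fun B _ _ X' φ pB hpb => (main B X' φ pB hpb).choose,
    fun B _ _ X' φ pB hpb => (main B X' φ pB hpb).choose_spec.1,
    fun B B' _ _ _ _ g X' X'' t φ pB pB' hpb hpb' hw f => ?_, hext⟩
  set x := (main B X' φ pB hpb).choose f with hx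
  have hcov'' : ⨆ i, (t ≫ φ) ⁻¹ᵁ U i = ⊤ := by rw [← Scheme.Hom.preimage_iSup, hcov]; rfl
  refine glob_injective (Coh.toGlobal pB') _ _ hcov'' ?_
  rw [(main B' X'' (t ≫ φ) pB' hpb').choose_spec.2]
  refine Subtype.ext <| funext₂ fun σ W => ?_
  rw [glob_apply, hnat]
  let V : X.Opens := ⨅ a, U (σ a)
  have hV : φ ⁻¹ᵁ V ≤ φ ⁻¹ᵁ V := le_rfl
  have hW : W.1 ≤ t ⁻¹ᵁ (φ ⁻¹ᵁ V) := le_preimage U (t ≫ φ) W.2
  have hW' : Ab.Le (fun i => φ ⁻¹ᵁ U i) σ (φ ⁻¹ᵁ V) := fun a => φ.preimage_mono (iInf_le _ a)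
  have h1 : ((Scheme.Modules.pullback (t ≫ φ)).obj F).presheaf.map (homOfLE (le_top : W.1 ≤ ⊤)).op
      (((Scheme.Modules.pullbackComp t φ).hom.app F).app ⊤ (InvX.pullElt t x)) =
      ((Scheme.Modules.pullbackComp t φ).hom.app F).app W.1
        (pullSec t ((Scheme.Modules.pullback φ).obj F) hW
          (((Scheme.Modules.pullback φ).obj F).presheaf.map (homOfLE (le_top : φ ⁻¹ᵁ V ≤ ⊤)).op x)) := by
    rw [← map_app_comm]
    refine congrArg (((Scheme.Modules.pullbackComp t φ).hom.app F).app W.1) ?_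
    unfold pullSec InvX.pullElt
    exact (secMap_map t ((Scheme.Modules.pullbackPushforwardAdjunction t).unit.app _) _ hW x).symm
  refine Eq.trans ?_ h1.symm
  have h2 : ((Scheme.Modules.pullback φ).obj F).presheaf.map (homOfLE (le_top : φ ⁻¹ᵁ V ≤ ⊤)).op x = _ :=
    congrFun₂ (congrArg Subtype.val ((main B X' φ pB hpb).choose_spec.2 f)) σ ⟨_, hW'⟩
  rw [h2]
  generalize (eQ B f).1 = z
  induction z using TensorProduct.induction_on with
  | zero =>
    rw [map_zero, map_zero, map_zero]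
    show (0 : Γ((Scheme.Modules.pullback (t ≫ φ)).obj F, W.1)) = _
    simp only [ZeroMemClass.coe_zero, Pi.zero_apply]
    rw [pullSec, map_zero, map_zero, map_zero]
  | add a b ha hb =>
    rw [map_add, map_add, map_add]
    have hadd : ∀ u v : (cxMod (Coh.toGlobal pB') (fun i => (t ≫ φ) ⁻¹ᵁ U i) ((Scheme.Modules.pullback (t ≫ φ)).obj F)).X 0,
        (u + v).1 σ W = u.1 σ W + v.1 σ W := fun _ _ => rfl
    refine (hadd _ _).trans ?_
    refine (congrArg₂ (· + ·) ha hb).trans ?_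
    rw [← map_add]
    refine congrArg _ ?_
    exact (secMap_add t ((Scheme.Modules.pullbackPushforwardAdjunction t).unit.app _) hW _ _).symm
  | tmul c b =>
    rw [LinearMap.lTensor_tmul, cxBC_tmul, cxBC_tmul]
    show (X''.presheaf.map (homOfLE (le_top : W.1 ≤ ⊤)).op (Coh.toGlobal pB' (g b))) •
        secMap (t ≫ φ) _ (le_preimage U (t ≫ φ) W.2) (c.1 σ ⟨V, fun a => iInf_le _ a⟩) =
      ((Scheme.Modules.pullbackComp t φ).hom.app F).app W.1 (pullSec t _ hW
        ((X'.presheaf.map (homOfLE (le_top : φ ⁻¹ᵁ V ≤ ⊤)).op (Coh.toGlobal pB b)) •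
          secMap φ _ (le_preimage U φ hW') (c.1 σ ⟨V, fun a => iInf_le _ a⟩)))
    rw [pullSec_smul, Scheme.Modules.Hom.app_smul]
    refine congrArg₂ (· • ·) ?_ (ExistEasy.pullSec_comp t φ F (le_preimage U φ hW') hW _).symm
    have hg : Coh.toGlobal pB' (g b) = t.appTop (Coh.toGlobal pB b) := by
      letI := g.toRingHom.toAlgebra
      exact toGlobal_comm pB pB' t hw b
    rw [hg]
    show (t.app ⊤ ≫ X''.presheaf.map (homOfLE (le_top : W.1 ≤ ⊤)).op) (Coh.toGlobal pB b) = _
    rw [Scheme.Hom.app_eq_appLE]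
    exact (ConcreteCategory.congr_hom (Scheme.Hom.appLE_map t _ _) _).trans
      (ConcreteCategory.congr_hom (Scheme.Hom.map_appLE t hW (homOfLE (le_top : φ ⁻¹ᵁ V ≤ ⊤)).op) _).symm

end Groth.Agent.SeesawGen
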