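import Groth.Agent.H23.Seesaw
import Groth.Agent.SeesawGen.SecNat
import Groth.Agent.AmpleVan.LiftFibre
import Groth.Agent.CohPullLib.FlatStage
import Groth.Agent.QCoh.LocFree
import Groth.Agent.Lib.CurveDeg

/-!
# Sections of invertible modules over arbitrary affine bases

A proper flat family of finite presentation descends to a noetherian base, so the sections of an invertible module after
every base change are corepresented by one finite module over the base ring.
-/

set_option autoImplicit false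
set_option linter.style.haveILetI false
set_option backward.isDefEq.respectTransparency false
set_option backward.isDefEq.respectTransparency.types false
set_option maxHeartbeats 1000000

universe u

open CategoryTheory CategoryTheory.Limits AlgebraicGeometry TopologicalSpace Opposite TensorProduct

noncomputable section

namespace Groth.Agent.SeesawGen

open Groth.Agent Groth.Agent.InvX Groth.Agent.H23

variable {A : Type u} [CommRing A] {X : Scheme.{u}} [X.Over (Spec (CommRingCat.of A))]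

local notation "π" => (X ↘ Spec (CommRingCat.of A))

theorem isFP_of_isInvertible {L : X.Modules} (hL : PicF.IsInvertible L) : CohB1.IsFP L :=
  QCoh.isFP_of_isFinLocFree fun y => let ⟨W, hy, he⟩ := InvEnd.isFinLocFreeOfRank_one hL y; ⟨W, 1, hy, he⟩

/-- Forms on an extension of scalars. -/
def liftEquiv (R S M Q : Type u) [CommRing R] [CommRing S] [Algebra R S] [AddCommGroup M] [Module R M] [Module S M]
    [IsScalarTower R S M] [AddCommGroup Q] [Module R Q] : (S ⊗[R] Q →ₗ[S] M) ≃+ (Q →ₗ[R] M) :=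
  { toFun := fun f => (f.restrictScalars R).comp ((TensorProduct.mk R S Q) 1)
    invFun := fun g => g.liftBaseChange S
    left_inv := fun f => by
      refine LinearMap.ext fun z => ?_
      induction z using TensorProduct.induction_on with
      | zero => exact (map_zero _).trans (map_zero f).symm
      | add x y hx hy => exact (map_add _ x y).trans ((congrArg₂ (· + ·) hx hy).trans (map_add f x y).symm)
      | tmul a q =>
        rw [LinearMap.liftBaseChange_tmul]
        show a • f (1 ⊗ₜ q) = f (a ⊗ₜ q)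
        rw [← map_smul]
        exact congrArg f (by rw [TensorProduct.smul_tmul', smul_eq_mul, mul_one])
    right_inv := fun g => LinearMap.ext fun q => by
      show g.liftBaseChange S (1 ⊗ₜ q) = g q
      rw [LinearMap.liftBaseChange_tmul, one_smul]
    map_add' := fun f g => rfl }

/-- An isomorphism, on global sections. -/
def isoΓ {Y : Scheme.{u}} {M N : Y.Modules} (i : M ≅ N) : Γ(M, ⊤) ≃+ Γ(N, ⊤) :=
  { toFun := fun s => i.hom.app ⊤ s
    invFun := fun s => i.inv.app ⊤ s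
    left_inv := fun s => congr(($(i.hom_inv_id)).app ⊤ s)
    right_inv := fun s => congr(($(i.inv_hom_id)).app ⊤ s)
    map_add' := fun s t => map_add _ s t }

/-- The finitely presented corepresenting module, with forms lifting from the fibres whose first cohomology vanishes. -/
theorem exists_rep_lift_fp [IsProper π] [Flat π] [LocallyOfFinitePresentation π] (L : X.Modules) (hL : PicF.IsInvertible L) :
    ∃ (Q : ModuleCat.{u} A) (_ : Module.FinitePresentation A Q) (e : (Q →ₗ[A] A) ≃+ Γ(L, ⊤)), SecRep.IsRep L Q e ∧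
      ∀ (K : Type u) [Field K] [Algebra A K] (X' : Scheme.{u}) (φ : X' ⟶ X) (pB : X' ⟶ Spec (CommRingCat.of K)),
        IsPullback φ pB π (Spec.map (CommRingCat.ofHom (algebraMap A K))) →
          Subsingleton (Coh.HH X' ((Scheme.Modules.pullback φ).obj L) 1) → (∃ ψ : Q →ₗ[A] K, ψ ≠ 0) →
            ∃ f : Q →ₗ[A] A, Algebra.linearMap A K ∘ₗ f ≠ 0 := by
  have hq : Coh.IsQCoh L := (QCoh.isQCoh_of_isFinLocFree
    fun y => let ⟨W, hy, he⟩ := InvEnd.isFinLocFreeOfRank_one hL y; ⟨W, 1, hy, he⟩)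
  obtain ⟨A₂, X₂, f₂, g₂, G, hA₂, hf₂, hsq, hG, hGfl, ⟨ψ⟩⟩ :=
    CohPullLib.exists_noetherian_model π hq (isFP_of_isInvertible hL) (Seesaw.isFlatOver_of_isInvertible π hL)
  haveI := CohPullLib.isNoetherianRing_of_fg hA₂
  letI : X₂.Over (Spec (CommRingCat.of ↥A₂)) := ⟨f₂⟩
  haveI : IsProper (X₂ ↘ Spec (CommRingCat.of ↥A₂)) := hf₂
  obtain ⟨Q₂, hQ₂, ε, hlin, hnat, hlift⟩ := exists_rep_nat (A := ↥A₂) G hG hGfl
  let liftA : (ModuleCat.of A (A ⊗[↥A₂] Q₂) →ₗ[A] A) ≃+ (Q₂ →ₗ[↥A₂] A) :=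
    liftEquiv (↥A₂) A A Q₂
  let ψΓ : Γ((Scheme.Modules.pullback g₂).obj G, ⊤) ≃+ Γ(L, ⊤) := isoΓ ψ
  haveI : Module.FinitePresentation (↥A₂) Q₂ := Module.finitePresentation_of_finite _ _
  refine ⟨ModuleCat.of A (A ⊗[↥A₂] Q₂), inferInstanceAs (Module.FinitePresentation A (A ⊗[↥A₂] Q₂)),
    (liftA.trans (ε A X g₂ π hsq)).trans ψΓ, fun B _ _ X' φ pB hpb => ?_,
    fun K _ _ X' φ pB hpb hH ⟨ψ', hψ'⟩ => ?_⟩
  swap
  · have hcompK : Spec.map (CommRingCat.ofHom (algebraMap A K)) ≫ Spec.map (CommRingCat.ofHom (algebraMap (↥A₂) A)) =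
        Spec.map (CommRingCat.ofHom (algebraMap (↥A₂) K)) := by
      rw [← Spec.map_comp]
      rfl
    have hpbK : IsPullback (φ ≫ g₂) pB (X₂ ↘ Spec (CommRingCat.of ↥A₂))
        (Spec.map (CommRingCat.ofHom (algebraMap (↥A₂) K))) := hcompK ▸ hpb.paste_horiz hsq
    let i : (Scheme.Modules.pullback (φ ≫ g₂)).obj G ≅ (Scheme.Modules.pullback φ).obj L :=
      ((Scheme.Modules.pullbackComp φ g₂).app G).symm ≪≫ (Scheme.Modules.pullback φ).mapIso ψ
    let liftK : (ModuleCat.of A (A ⊗[↥A₂] Q₂) →ₗ[A] K) ≃+ (Q₂ →ₗ[↥A₂] K) := liftEquiv (↥A₂) A K Q₂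
    obtain ⟨f₂, hf₂⟩ := hlift K X' (φ ≫ g₂) pB hpbK (AmpleVan.subsingleton_of_iso i.symm 1 hH)
      ⟨liftK ψ', fun h => hψ' (liftK.injective (h.trans (map_zero liftK).symm))⟩
    refine ⟨liftA.symm (Algebra.linearMap (↥A₂) A ∘ₗ f₂), fun h => hf₂ ?_⟩
    have h1 : liftK (Algebra.linearMap A K ∘ₗ liftA.symm (Algebra.linearMap (↥A₂) A ∘ₗ f₂)) =
        (IsScalarTower.toAlgHom (↥A₂) A K).toLinearMap ∘ₗ liftA (liftA.symm (Algebra.linearMap (↥A₂) A ∘ₗ f₂)) := rfl
    rw [h, map_zero, liftA.apply_symm_apply] at h1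
    refine Eq.trans ?_ h1.symm
    exact LinearMap.ext fun q => IsScalarTower.algebraMap_apply (↥A₂) A K (f₂ q)
  have hcomp : Spec.map (CommRingCat.ofHom (algebraMap A B)) ≫ Spec.map (CommRingCat.ofHom (algebraMap (↥A₂) A)) =
      Spec.map (CommRingCat.ofHom (algebraMap (↥A₂) B)) := by
    rw [← Spec.map_comp]
    rfl
  have hpb₂ : IsPullback (φ ≫ g₂) pB (X₂ ↘ Spec (CommRingCat.of ↥A₂))
      (Spec.map (CommRingCat.ofHom (algebraMap (↥A₂) B))) := hcomp ▸ hpb.paste_horiz hsq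
  let i : (Scheme.Modules.pullback (φ ≫ g₂)).obj G ≅ (Scheme.Modules.pullback φ).obj L :=
    ((Scheme.Modules.pullbackComp φ g₂).app G).symm ≪≫ (Scheme.Modules.pullback φ).mapIso ψ
  let lift : (ModuleCat.of A (A ⊗[↥A₂] Q₂) →ₗ[A] B) ≃+ (Q₂ →ₗ[↥A₂] B) := liftEquiv (↥A₂) A B Q₂
  refine ⟨(lift.trans (ε B X' (φ ≫ g₂) pB hpb₂)).trans (isoΓ i), fun b f => ?_, fun f => ?_⟩
  · show i.hom.app ⊤ (ε B X' (φ ≫ g₂) pB hpb₂ (lift (LinearMap.mulLeft A b ∘ₗ f))) = _
    have h1 : lift (LinearMap.mulLeft A b ∘ₗ f) = LinearMap.mulLeft ↥A₂ b ∘ₗ lift f := rfl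
    rw [h1, hlin]
    exact Scheme.Modules.Hom.app_smul _ _ _
  · show i.hom.app ⊤ (ε B X' (φ ≫ g₂) pB hpb₂ (lift (Algebra.linearMap A B ∘ₗ f))) =
      InvX.pullElt φ (ψ.hom.app ⊤ (ε A X g₂ π hsq (liftA f)))
    have h1 : lift (Algebra.linearMap A B ∘ₗ f) = (IsScalarTower.toAlgHom (↥A₂) A B).toLinearMap ∘ₗ liftA f := rfl
    rw [h1, hnat A B (IsScalarTower.toAlgHom (↥A₂) A B) X X' φ g₂ π pB hsq hpb₂ hpb.w]
    set s := InvX.pullElt φ (ε A X g₂ π hsq (liftA f))
    show ((Scheme.Modules.pullback φ).map ψ.hom).app ⊤ (((Scheme.Modules.pullbackComp φ g₂).inv.app G).app ⊤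
      (((Scheme.Modules.pullbackComp φ g₂).hom.app G).app ⊤ s)) = _
    rw [show ((Scheme.Modules.pullbackComp φ g₂).inv.app G).app ⊤
      (((Scheme.Modules.pullbackComp φ g₂).hom.app G).app ⊤ s) = s from
        congr(($((Scheme.Modules.pullbackComp φ g₂).hom_inv_id_app G)).app ⊤ s)]
    exact (congrArg (fun η : _ ⟶ _ => Scheme.Modules.Hom.app η ⊤ _)
      ((Scheme.Modules.pullbackPushforwardAdjunction φ).unit.naturality ψ.hom)).symm

/-- The corepresenting module, with forms lifting from the fibres whose first cohomology vanishes. -/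
theorem exists_rep_lift [IsProper π] [Flat π] [LocallyOfFinitePresentation π] (L : X.Modules) (hL : PicF.IsInvertible L) :
    ∃ (Q : ModuleCat.{u} A) (_ : Module.Finite A Q) (e : (Q →ₗ[A] A) ≃+ Γ(L, ⊤)), SecRep.IsRep L Q e ∧
      ∀ (K : Type u) [Field K] [Algebra A K] (X' : Scheme.{u}) (φ : X' ⟶ X) (pB : X' ⟶ Spec (CommRingCat.of K)),
        IsPullback φ pB π (Spec.map (CommRingCat.ofHom (algebraMap A K))) →
          Subsingleton (Coh.HH X' ((Scheme.Modules.pullback φ).obj L) 1) → (∃ ψ : Q →ₗ[A] K, ψ ≠ 0) →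
            ∃ f : Q →ₗ[A] A, Algebra.linearMap A K ∘ₗ f ≠ 0 :=
  let ⟨Q, hQ, e, h⟩ := exists_rep_lift_fp (A := A) L hL
  ⟨Q, inferInstance, e, h⟩

/-- Global sections after every base change, by a finite module, compatibly with the sections on `X`. -/
theorem exists_rep [IsProper π] [Flat π] [LocallyOfFinitePresentation π] (L : X.Modules) (hL : PicF.IsInvertible L) :
    ∃ (Q : ModuleCat.{u} A) (_ : Module.Finite A Q) (e : (Q →ₗ[A] A) ≃+ Γ(L, ⊤)), SecRep.IsRep L Q e :=
  let ⟨Q, hQ, e, h, _⟩ := exists_rep_lift (A := A) L hL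
  ⟨Q, hQ, e, h⟩

end Groth.Agent.SeesawGen
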