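import Groth.Agent.SeesawGen.Affine
import Groth.Agent.FlatMisc.SteinUC

/-!
# Functions on a family with geometrically integral fibres over an arbitrary base
-/

set_option autoImplicit false
set_option linter.style.haveILetI false
set_option backward.isDefEq.respectTransparency false
set_option backward.isDefEq.respectTransparency.types false
set_option maxHeartbeats 1000000

universe u

open CategoryTheory CategoryTheory.Limits AlgebraicGeometry TopologicalSpace Opposite

noncomputable section

namespace Groth.Agent.SeesawGen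

open Groth.Agent Groth.Agent.InvX Groth.Agent.H23 Groth.Agent.H23.TrivBasic Groth.Agent.H23.Seesaw

/-- Forms on a locally cyclic module are multiples of one which vanishes nowhere. -/
theorem exists_eq_smul_of_cyclic {A Q : Type u} [CommRing A] [AddCommGroup Q] [Module A Q] (ψ φ : Q →ₗ[A] A)
    (h : ∀ x : PrimeSpectrum A, ∃ (q₀ : Q) (c : A), c ∉ x.asIdeal ∧ (∀ q, ∃ d : A, c • q = d • q₀) ∧
      ψ q₀ ∉ x.asIdeal) : ∃ a : A, φ = a • ψ := by
  let J : Ideal A :=
    { carrier := {a | ∃ b : A, a • φ = b • ψ}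
      add_mem' := fun {a a'} ⟨b, hb⟩ ⟨b', hb'⟩ => ⟨b + b', by rw [add_smul, hb, hb', add_smul]⟩
      zero_mem' := ⟨0, by simp⟩
      smul_mem' := fun r a ⟨b, hb⟩ => ⟨r * b, by rw [smul_eq_mul, mul_smul, hb, mul_smul]⟩ }
  have hJ : J = ⊤ := by
    by_contra hne
    obtain ⟨M, hM, hJM⟩ := Ideal.exists_le_maximal J hne
    obtain ⟨q₀, c, hc, hcyc, hq⟩ := h ⟨M, hM.isPrime⟩
    refine (hM.isPrime.mem_or_mem (hJM (show c * ψ q₀ ∈ J from ⟨c * φ q₀, LinearMap.ext fun q => ?_⟩))).elim hc hq
    obtain ⟨d, hd⟩ := hcyc q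
    have h1 := congrArg φ hd
    have h2 := congrArg ψ hd
    simp only [map_smul, smul_eq_mul] at h1 h2
    simp only [LinearMap.smul_apply, smul_eq_mul]
    linear_combination ψ q₀ * h1 - φ q₀ * h2
  obtain ⟨b, hb⟩ := (hJ ▸ Submodule.mem_top : (1 : A) ∈ J)
  exact ⟨b, by rw [← hb, one_smul]⟩

section Affine

variable {A : Type u} [CommRing A] {X : Scheme.{u}} [X.Over (Spec (CommRingCat.of A))]
  [IsProper (X ↘ Spec (CommRingCat.of A))] [Flat (X ↘ Spec (CommRingCat.of A))]
  [LocallyOfFinitePresentation (X ↘ Spec (CommRingCat.of A))] [GeometricallyIntegral (X ↘ Spec (CommRingCat.of A))]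

local notation "π" => (X ↘ Spec (CommRingCat.of A))

/-- Sections of a module with a frame are multiples of it by functions on the base. -/
theorem exists_toGlobal_smul {L : X.Modules} (hL : PicF.IsInvertible L) {t : Γ(L, ⊤)} (ht : IsFrame t) (s : Γ(L, ⊤)) :
    ∃ a : A, s = (show Γ(X, ⊤) from Coh.toGlobal π a) • t := by
  obtain ⟨Q, _, e, hQ⟩ := exists_rep (A := A) L hL
  haveI : IsIso (Spec.map (CommRingCat.ofHom (algebraMap A A))) := by
    rw [Algebra.algebraMap_self, CommRingCat.ofHom_id, Spec.map_id]; infer_instance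
  obtain ⟨eA, he1, he2⟩ := hQ A X (𝟙 X) π (IsPullback.of_horiz_isIso ⟨by
    rw [Algebra.algebraMap_self, CommRingCat.ofHom_id, Spec.map_id, Category.comp_id, Category.id_comp]⟩)
  let t' := pullElt (𝟙 X) t
  let s' := pullElt (𝟙 X) s
  have hψ : Algebra.linearMap A A ∘ₗ e.symm t = e.symm t := LinearMap.ext fun _ => rfl
  have hφ : Algebra.linearMap A A ∘ₗ e.symm s = e.symm s := LinearMap.ext fun _ => rfl
  have hT : Triv L := triv_of_frame ht
  obtain ⟨a, ha⟩ := exists_eq_smul_of_cyclic (e.symm t) (e.symm s) fun x => by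
    have hx : FibreTriv L x := hT.pullback _
    obtain ⟨h1, h2⟩ := line_of_fibreTriv hQ x hx
    obtain ⟨q₀, c, hc, hcyc⟩ := SeesawMod.exists_generator x (SeesawMod.fibreRank_eq_one x h1 h2)
    refine ⟨q₀, c, hc, hcyc, fun hq => ?_⟩
    obtain ⟨eK, -, hK⟩ := hQ x.asIdeal.ResidueField _ _ _ (IsPullback.of_hasPullback π _)
    have h0 : Algebra.linearMap A x.asIdeal.ResidueField ∘ₗ e.symm t = 0 := LinearMap.ext fun q => by
      obtain ⟨d, hd⟩ := hcyc q
      have h := congrArg (e.symm t) hd
      simp only [map_smul, smul_eq_mul] at h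
      have hck : algebraMap A x.asIdeal.ResidueField c ≠ 0 := fun h' => hc (Ideal.algebraMap_residueField_eq_zero.1 h')
      show algebraMap A x.asIdeal.ResidueField (e.symm t q) = 0
      refine (mul_eq_zero.1 ?_).resolve_left hck
      rw [← map_mul, h, map_mul, Ideal.algebraMap_residueField_eq_zero.2 hq, mul_zero]
    have hfr : IsFrame (show Γ((Scheme.Modules.pullback (pullback.fst π (specAlg A x.asIdeal.ResidueField))).obj L, ⊤)
        from pullElt (pullback.fst π (specAlg A x.asIdeal.ResidueField)) t) :=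
      isFrame_pullElt (pullback.fst π (specAlg A x.asIdeal.ResidueField)) ht
    have hz := hK (e.symm t)
    rw [h0, map_zero, e.apply_symm_apply] at hz
    haveI := (isField_Γ (pullback.snd π (specAlg A x.asIdeal.ResidueField)) (Rigid.bijective_appTop _)).toField.toNontrivial
    refine zero_ne_one (hfr.coord_unique le_rfl (r := 0) (r' := 1) ?_)
    rw [AModX.res_self, zero_smul, one_smul]
    exact hz
  have key : eA (e.symm s) = (show Γ(X, ⊤) from Coh.toGlobal π a) • eA (e.symm t) := by
    rw [← he1, ha]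
    exact congrArg eA (LinearMap.ext fun q => rfl)
  have h1 := he2 (e.symm t)
  have h2 := he2 (e.symm s)
  rw [hψ, e.apply_symm_apply] at h1
  rw [hφ, e.apply_symm_apply] at h2
  rw [h1, h2] at key
  refine ⟨a, ?_⟩
  let i := (Scheme.Modules.pullbackId X).app L
  obtain ⟨c, hc⟩ := ht.exists_coord le_rfl s
  rw [AModX.res_self] at hc
  have hfr : IsFrame (show Γ((Scheme.Modules.pullback (𝟙 X)).obj L, ⊤) from pullElt (𝟙 X) t) :=
    isFrame_pullElt (𝟙 X) ht
  have h3 : (show Γ((Scheme.Modules.pullback (𝟙 X)).obj L, ⊤) from pullElt (𝟙 X) s) =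
      (show Γ(X, ⊤) from (𝟙 X : X ⟶ X).app ⊤ c) • (show Γ((Scheme.Modules.pullback (𝟙 X)).obj L, ⊤) from pullElt (𝟙 X) t) := by
    rw [hc]
    exact pullElt_smul _ _ _
  have h4 := hfr.coord_unique le_rfl (r := (show Γ(X, ⊤) from (𝟙 X : X ⟶ X).app ⊤ c))
    (r' := Coh.toGlobal π a) (by rw [AModX.res_self]; exact h3.symm.trans key)
  rw [hc, show c = Coh.toGlobal π a from (by simpa using h4)]

/-- The functions on the family are the functions on the base. -/
theorem bijective_appTop_gi : Function.Bijective (π).appTop := by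
  constructor
  · haveI : Epi π := Flat.epi_of_flat_of_surjective _
    exact GrpSchLib.AntiAffine.appTop_injective_of_epi π
  · intro s
    obtain ⟨a, ha⟩ := exists_toGlobal_smul (A := A) InvX.isInvertible_structureModule
      (InvX.isFrame_one (⊤ : X.Opens)) (show Γ(Coh.structureModule X, ⊤) from s)
    refine ⟨(Scheme.ΓSpecIso (CommRingCat.of A)).inv a, ?_⟩
    exact (mul_one _).symm.trans ha.symm

end Affine

/-- Functions over an open of the base are functions on the open. -/
theorem bijective_app_gi {X S : Scheme.{u}} (f : X ⟶ S) [IsProper f] [Flat f] [LocallyOfFinitePresentation f]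
    [GeometricallyIntegral f] (W : S.Opens) : Function.Bijective (f.app W) := by
  refine FlatMisc.bijective_app_of_isBasis _ S.isBasis_affineOpens (fun V hV => ?_) W
  let x := (show IsAffineOpen V from hV).fromSpec
  let Z := pullback f x
  letI : Z.Over (Spec (CommRingCat.of Γ(S, V))) := ⟨pullback.snd f x⟩
  haveI : IsProper (Z ↘ Spec (CommRingCat.of Γ(S, V))) := inferInstanceAs (IsProper (pullback.snd f x))
  haveI : Flat (Z ↘ Spec (CommRingCat.of Γ(S, V))) := inferInstanceAs (Flat (pullback.snd f x))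
  haveI : LocallyOfFinitePresentation (Z ↘ Spec (CommRingCat.of Γ(S, V))) :=
    inferInstanceAs (LocallyOfFinitePresentation (pullback.snd f x))
  haveI : GeometricallyIntegral (Z ↘ Spec (CommRingCat.of Γ(S, V))) :=
    inferInstanceAs (GeometricallyIntegral (pullback.snd f x))
  let c := pullback.fst f x
  have hxr : x.opensRange = V := (show IsAffineOpen V from hV).opensRange_fromSpec
  have hrange : f ⁻¹ᵁ V ≤ c.opensRange := fun p hp => by
    obtain ⟨q, hq⟩ : f p ∈ x.opensRange := hxr.symm ▸ hp
    obtain ⟨z, hz, -⟩ := Scheme.Pullback.exists_preimage_pullback p q hq.symm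
    exact ⟨z, hz⟩
  haveI := c.isIso_app (f ⁻¹ᵁ V) hrange
  haveI := x.isIso_app V hxr.ge
  have hcoe : ∀ {A B C : CommRingCat.{u}} (a : A ⟶ B) (b : B ⟶ C), ⇑(ConcreteCategory.hom (a ≫ b)) = b ∘ a :=
    fun a b => funext fun y => ConcreteCategory.comp_apply a b y
  have key : Function.Bijective ((c ≫ f).app V) := by
    rw [Scheme.Hom.congr_app pullback.condition V, hcoe, Scheme.Hom.comp_app, hcoe]
    refine (ConcreteCategory.bijective_of_isIso _).comp (Function.Bijective.comp ?_
      (ConcreteCategory.bijective_of_isIso (x.app V)))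
    have htop : x ⁻¹ᵁ V = ⊤ := eq_top_iff.2 fun q _ => hxr.le ⟨q, rfl⟩
    have gen : ∀ U : (Spec (CommRingCat.of Γ(S, V))).Opens, U = ⊤ → Function.Bijective ((pullback.snd f x).app U) := by
      rintro _ rfl
      exact bijective_appTop_gi (A := Γ(S, V)) (X := Z)
    exact gen _ htop
  rw [Scheme.Hom.comp_app, hcoe] at key
  exact (Function.Bijective.of_comp_iff' (ConcreteCategory.bijective_of_isIso (c.app (f ⁻¹ᵁ V))) _).1 key

end Groth.Agent.SeesawGen
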