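import Groth.Agent.SeesawGen.Affine
import Groth.Agent.SeesawSub.RelTriv

/-!
# The locus of relative triviality over an affine base is closed
-/

set_option autoImplicit false
set_option linter.style.haveILetI false
set_option backward.isDefEq.respectTransparency false
set_option backward.isDefEq.respectTransparency.types false
set_option maxHeartbeats 1000000

universe u

open CategoryTheory CategoryTheory.Limits AlgebraicGeometry TopologicalSpace Opposite

noncomputable section

namespace Groth.Agent.SeesawGen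

open Groth.Agent Groth.Agent.InvX Groth.Agent.H23 Groth.Agent.H23.TrivBasic Groth.Agent.H23.Seesaw

variable {A : Type u} [CommRing A]

theorem exists_form_ne_zero (Q : Type u) [AddCommGroup Q] [Module A Q] [Module.Finite A Q] (x : PrimeSpectrum A)
    (hx : x ∈ Module.support A Q) : ∃ g : Q →ₗ[A] x.asIdeal.ResidueField, g ≠ 0 := by
  rw [Module.mem_support_iff_nontrivial_residueField_tensorProduct] at hx
  by_contra H
  push Not at H
  let k := x.asIdeal.ResidueField
  haveI : Subsingleton (Q →ₗ[A] k) := ⟨fun a b => (H a).trans (H b).symm⟩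
  haveI : Subsingleton (Module.Dual k (TensorProduct A k Q)) := (SeesawMod.dualEquiv (Q := Q) k).symm.toEquiv.subsingleton
  have h2 := Subspace.dual_finrank_eq (K := k) (V := TensorProduct A k Q)
  rw [Module.finrank_zero_of_subsingleton] at h2
  exact (Module.finrank_pos_iff.2 hx).ne h2

variable {X : Scheme.{u}} [X.Over (Spec (CommRingCat.of A))] [IsProper (X ↘ Spec (CommRingCat.of A))]
  [Flat (X ↘ Spec (CommRingCat.of A))] [LocallyOfFinitePresentation (X ↘ Spec (CommRingCat.of A))]
  [GeometricallyIntegral (X ↘ Spec (CommRingCat.of A))]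

local notation "π" => (X ↘ Spec (CommRingCat.of A))

/-- Killing on affines gives killing on all test schemes. -/
theorem appTop_eq_zero {L : X.Modules} {a : A}
    (h : ∀ (B : Type u) [CommRing B] [Algebra A B],
      Triv ((Scheme.Modules.pullback (pullback.fst π (specAlg A B))).obj L) → algebraMap A B a = 0)
    {T : Scheme.{u}} (v : T ⟶ Spec (CommRingCat.of A)) (hv : SeesawSub.RelTriv π L v) :
    v.appTop ((Scheme.ΓSpecIso (CommRingCat.of A)).inv a) = 0 := by
  refine T.IsSheaf.section_ext fun t _ => ?_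
  obtain ⟨V, hV, hT⟩ := hv t
  obtain ⟨_, ⟨W, hW, rfl⟩, htW, hWV⟩ := T.isBasis_affineOpens.exists_subset_of_mem_open hV V.isOpen
  refine ⟨W, le_top, htW, ?_⟩
  rw [map_zero]
  let φ : CommRingCat.of A ⟶ Γ(T, W) :=
    (Scheme.ΓSpecIso (CommRingCat.of A)).inv ≫ v.appLE ⊤ W (fun _ _ => trivial)
  letI : Algebra A Γ(T, W) := φ.hom.toAlgebra
  have hφ : Spec.map (CommRingCat.ofHom (algebraMap A Γ(T, W))) = hW.fromSpec ≫ v := by
    rw [show CommRingCat.ofHom (algebraMap A Γ(T, W)) = φ from rfl, Spec.map_comp,
      ← IsAffineOpen.SpecMap_appLE_fromSpec v (isAffineOpen_top _) hW, IsAffineOpen.fromSpec_top,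
      Scheme.isoSpec_Spec_inv]
  have h0 := h Γ(T, W) (SeesawGlobal.triv_pullback_of_factor
    (IsOpenImmersion.lift V.ι hW.fromSpec (by rw [Scheme.Opens.range_ι]; exact (IsAffineOpen.range_fromSpec hW).trans_subset hWV))
    (by rw [IsOpenImmersion.lift_fac_assoc]; exact hφ.symm) hT)
  exact h0

/-- The locus where the module is trivial relative to an affine base is cut out by one ideal. -/
theorem exists_locus {L : X.Modules} (hL : PicF.IsInvertible L) :
    ∃ I : Ideal A, SeesawSub.RelTriv π L (specAlg A (A ⧸ I)) ∧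
      ∀ (T : Scheme.{u}) (v : T ⟶ Spec (CommRingCat.of A)), SeesawSub.RelTriv π L v →
        ∀ a ∈ I, v.appTop ((Scheme.ΓSpecIso (CommRingCat.of A)).inv a) = 0 := by
  obtain ⟨D, hD, ⟨φ⟩⟩ := PicInv.exists_inverse hL
  obtain ⟨Q, _, e, hQ⟩ := exists_rep (A := A) L hL
  obtain ⟨Q', _, e', hQ'⟩ := exists_rep (A := A) D hD
  haveI : Surjective π := inferInstance
  let I := Module.annihilator A Q ⊔ Module.annihilator A Q'
  refine ⟨I, SeesawSub.relTriv_of_cover fun p => ?_, fun T v hv a ha => ?_⟩
  swap
  · refine appTop_eq_zero (L := L) (a := a) (fun B _ _ hT => ?_) v hv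
    exact RingHom.mem_ker.1 ((sup_le (fun b hb => kill hQ hT hb) (fun b hb => kill hQ' (triv_inverse _ φ hT) hb) :
      I ≤ RingHom.ker (algebraMap A B)) ha)
  let C := A ⧸ I
  let g := specAlg A C
  have hIC : ∀ a ∈ I, algebraMap A C a = 0 := fun a ha => Ideal.Quotient.eq_zero_iff_mem.2 ha
  have hsupp : ∀ (R : ModuleCat.{u} A) [Module.Finite A R], Module.annihilator A R ≤ I →
      ∀ b : Spec (CommRingCat.of C), g b ∈ Module.support A R := fun R _ hR b => by
    rw [Module.support_eq_zeroLocus]
    intro a ha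
    show algebraMap A C a ∈ b.asIdeal
    rw [hIC a (hR ha)]
    exact zero_mem _
  have hfib : ∀ b : Spec (CommRingCat.of C), FibreTriv L (g b) := fun b => by
    obtain ⟨ψ, hψ⟩ := exists_form_ne_zero Q (g b) (hsupp Q le_sup_left b)
    obtain ⟨ψ', hψ'⟩ := exists_form_ne_zero Q' (g b) (hsupp Q' le_sup_right b)
    exact fibreTriv_of_forms hL hD φ hQ hQ' (g b) hψ hψ'
  obtain ⟨h1, h2⟩ := line_of_fibreTriv hQ (g p) (hfib p)
  obtain ⟨q₀, c, hc, hcyc⟩ := SeesawMod.exists_generator (g p) (SeesawMod.fibreRank_eq_one (g p) h1 h2)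
  letI : IsProper (SeesawGlobal.chart π C g ↘ Spec (CommRingCat.of C)) :=
    inferInstanceAs (IsProper (pullback.snd π g))
  letI : Flat (SeesawGlobal.chart π C g ↘ Spec (CommRingCat.of C)) := inferInstanceAs (Flat (pullback.snd π g))
  letI : LocallyOfFinitePresentation (SeesawGlobal.chart π C g ↘ Spec (CommRingCat.of C)) :=
    inferInstanceAs (LocallyOfFinitePresentation (pullback.snd π g))
  letI : GeometricallyIntegral (SeesawGlobal.chart π C g ↘ Spec (CommRingCat.of C)) :=
    inferInstanceAs (GeometricallyIntegral (pullback.snd π g))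
  let B := Localization.Away (Ideal.Quotient.mk I c)
  let j : Spec (CommRingCat.of B) ⟶ Spec (CommRingCat.of C) := specAlg C B
  haveI : IsOpenImmersion j := IsOpenImmersion.of_isLocalization (Ideal.Quotient.mk I c)
  let gB := specAlg A B
  have hgB : j ≫ g = gB := by
    show specAlg C B ≫ specAlg A C = specAlg A B
    rw [specAlg, specAlg, specAlg, ← Spec.map_comp, ← CommRingCat.ofHom_comp, ← IsScalarTower.algebraMap_eq]
  letI : IsProper (SeesawGlobal.chart π B gB ↘ Spec (CommRingCat.of B)) :=
    inferInstanceAs (IsProper (pullback.snd π gB))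
  letI : Flat (SeesawGlobal.chart π B gB ↘ Spec (CommRingCat.of B)) := inferInstanceAs (Flat (pullback.snd π gB))
  letI : LocallyOfFinitePresentation (SeesawGlobal.chart π B gB ↘ Spec (CommRingCat.of B)) :=
    inferInstanceAs (LocallyOfFinitePresentation (pullback.snd π gB))
  letI : GeometricallyIntegral (SeesawGlobal.chart π B gB ↘ Spec (CommRingCat.of B)) :=
    inferInstanceAs (GeometricallyIntegral (pullback.snd π gB))
  have hcB : IsUnit (algebraMap A B c) := by
    rw [IsScalarTower.algebraMap_apply A C B]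
    exact IsLocalization.Away.algebraMap_isUnit (Ideal.Quotient.mk I c)
  have hcol : ∀ a ∈ SeesawSub.colonI c q₀, algebraMap A B a = 0 := fun a ⟨n, hn⟩ => by
    have hmem : c ^ (n + 1) * a ∈ Module.annihilator A Q := Module.mem_annihilator.2 fun q => by
      obtain ⟨d, hd⟩ := hcyc q
      rw [show c ^ (n + 1) * a = c ^ n * a * c by ring, mul_smul, hd, smul_comm, hn, smul_zero]
    have h0 : algebraMap A B (c ^ (n + 1) * a) = 0 := by
      rw [IsScalarTower.algebraMap_apply A C B, hIC _ (Ideal.mem_sup_left hmem), map_zero]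
    rw [map_mul, map_pow] at h0
    exact (hcB.pow (n + 1)).mul_right_eq_zero.1 h0
  obtain ⟨ψ, hψ⟩ := SeesawSub.exists_form_unit hcyc hcB hcol
  obtain ⟨eB, he1, -⟩ := hQ B _ _ _ (IsPullback.of_hasPullback π gB)
  have hrel : SeesawSub.RelTriv π L gB := SeesawSub.relTriv_of_frames fun b => by
    have hx : FibreTriv (SeesawGlobal.chartMod π L B gB) b := by
      refine SeesawGlobal.triv_chart π B gB ?_
      let y : PrimeSpectrum A := g (j b)
      have hy : y.asIdeal = b.asIdeal.comap (algebraMap A B) := by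
        show (b.asIdeal.comap (algebraMap C B)).comap (algebraMap A C) = _
        rw [Ideal.comap_comap, ← IsScalarTower.algebraMap_eq]
      refine SeesawGlobal.triv_pullback_of_factor
        (Spec.map (CommRingCat.ofHom (Ideal.ResidueField.map y.asIdeal b.asIdeal (algebraMap A B) hy))) ?_ (hfib (j b))
      show Spec.map _ ≫ Spec.map _ = Spec.map _ ≫ Spec.map _
      rw [← Spec.map_comp, ← Spec.map_comp]
      congr 1
      exact CommRingCat.hom_ext (RingHom.ext fun a => Ideal.ResidueField.map_algebraMap _ _ _ _ a)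
    exact exists_triv_of_faithful (A := B) (X := SeesawGlobal.chart π B gB) (L := SeesawGlobal.chartMod π L B gB)
      (PicClLib.isInvertible_pullback _ hL) hx (eB ψ) fun d hd => by
        have h : LinearMap.mulLeft A d ∘ₗ ψ = 0 :=
          eB.injective ((he1 d ψ).trans (hd.trans (map_zero eB).symm))
        have h' := LinearMap.congr_fun h q₀
        simpa [hψ] using h'
  have hp : p ∈ Set.range j := (PrimeSpectrum.localization_away_comap_range B (Ideal.Quotient.mk I c)).ge hc
  exact ⟨_, j, inferInstance, hp, hgB.symm ▸ hrel⟩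

end Groth.Agent.SeesawGen
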