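import Groth.Agent.SeesawGen.Rep
import Groth.Agent.SeesawSub.Local
import Groth.Agent.GrpSchLib.AntiAffineBC

/-!
# The seesaw subscheme over an arbitrary affine base

For a proper flat family of finite presentation with geometrically integral fibres, an invertible module is locally trivial
over the base after a base change exactly when the base change kills the two annihilators of the modules corepresenting
the sections of the module and of its inverse.
-/

set_option autoImplicit false
set_option linter.style.haveILetI false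
set_option backward.isDefEq.respectTransparency false
set_option backward.isDefEq.respectTransparency.types false
set_option maxHeartbeats 1000000

universe u

open CategoryTheory CategoryTheory.Limits AlgebraicGeometry TopologicalSpace Opposite

noncomputable section

namespace Groth.Agent.SeesawGen

open Groth.Agent Groth.Agent.InvX Groth.Agent.H23 Groth.Agent.H23.TrivBasic Groth.Agent.H23.Seesaw
open scoped Groth.Agent.H23.PicMul

variable {A : Type u} [CommRing A] {X : Scheme.{u}} [X.Over (Spec (CommRingCat.of A))]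

local notation "π" => (X ↘ Spec (CommRingCat.of A))

theorem triv_inverse {Y : Scheme.{u}} (p : Y ⟶ X) {L D : X.Modules} (φ : CohB1.tensorMod L D ≅ Coh.structureModule X)
    (h : Triv ((Scheme.Modules.pullback p).obj L)) : Triv ((Scheme.Modules.pullback p).obj D) := by
  have h1 := congrArg (PicF.pullCl p) ((PicGrp.cl_eq_cl_iff _ _).2 ⟨φ⟩)
  rw [PicMul.cl_tensor, PicMul.pullCl_mul, ← PicMul.one_def, PicMul.pullCl_one,
    show PicF.pullCl p (PicF.cl L) = 1 from (PicGrp.cl_eq_cl_iff _ _).2 h, one_mul] at h1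
  exact (PicGrp.cl_eq_cl_iff _ _).1 h1

variable [IsProper (X ↘ Spec (CommRingCat.of A))]

/-- A trivialisation after a base change with injective functions gives a faithful form. -/
theorem kill [Flat (X ↘ Spec (CommRingCat.of A))] [Surjective (X ↘ Spec (CommRingCat.of A))] {L : X.Modules} {Q : ModuleCat.{u} A} {e : (Q →ₗ[A] A) ≃+ Γ(L, ⊤)}
    (hQ : SecRep.IsRep L Q e) {B : Type u} [CommRing B]
    [Algebra A B] (hT : Triv ((Scheme.Modules.pullback (pullback.fst π (specAlg A B))).obj L)) {a : A}
    (ha : a ∈ Module.annihilator A Q) : algebraMap A B a = 0 := by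
  obtain ⟨eB, he1, -⟩ := hQ B _ _ _ (IsPullback.of_hasPullback π _)
  obtain ⟨s, hs⟩ := hT.exists_frame
  have h := he1 (algebraMap A B a) (eB.symm s)
  have h0 : LinearMap.mulLeft A (algebraMap A B a) ∘ₗ eB.symm s = 0 := LinearMap.ext fun q => by
    show algebraMap A B a * eB.symm s q = 0
    rw [← Algebra.smul_def, ← map_smul, Module.mem_annihilator.1 ha q, map_zero]
  rw [h0, map_zero, eB.apply_symm_apply] at h
  haveI : Surjective (pullback.snd π (specAlg A B)) := inferInstance
  haveI : Epi (pullback.snd π (specAlg A B)) := Flat.epi_of_flat_of_surjective _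
  have hinj : Function.Injective (Coh.toGlobal (pullback.snd π (specAlg A B))) :=
    (GrpSchLib.AntiAffine.appTop_injective_of_epi (pullback.snd π (specAlg A B))).comp
      (ConcreteCategory.bijective_of_isIso (Scheme.ΓSpecIso (CommRingCat.of B)).inv).1
  refine hinj ((hs.coord_unique le_rfl (r' := 0) ?_).trans (map_zero _).symm)
  rw [AModX.res_self, zero_smul]
  exact h.symm

variable [GeometricallyIntegral (X ↘ Spec (CommRingCat.of A))]

/-- The forms with values in the residue field on a trivial fibre form a line. -/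
theorem line_of_fibreTriv {L : X.Modules} {Q : ModuleCat.{u} A} {e : (Q →ₗ[A] A) ≃+ Γ(L, ⊤)}
    (hQ : SecRep.IsRep L Q e) (x : PrimeSpectrum A)
    (hT : FibreTriv L x) :
    (∃ g : Q →ₗ[A] x.asIdeal.ResidueField, g ≠ 0) ∧
      ∀ g g' : Q →ₗ[A] x.asIdeal.ResidueField, g ≠ 0 → ∃ c : x.asIdeal.ResidueField, g' = c • g := by
  obtain ⟨eB, he1, -⟩ := hQ x.asIdeal.ResidueField _ _ _ (IsPullback.of_hasPullback π _)
  have h0 : FibreH0 X x := Rigid.bijective_appTop _
  have hF := isField_Γ _ h0
  haveI := hF.toField.toNontrivial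
  constructor
  · obtain ⟨s, hs⟩ := hT.exists_frame
    refine ⟨eB.symm s, fun h => ?_⟩
    have hs0 : s = 0 := by rw [← eB.apply_symm_apply s, h, map_zero]
    exact zero_ne_one (hs.coord_unique le_rfl (r := 0) (r' := 1) (by simp [hs0]))
  · intro g g' hg
    have hf := TrivBasic.isFrame_of_ne_zero hT hF (s := eB g) fun h => hg (eB.injective (h.trans (map_zero eB).symm))
    obtain ⟨r, hr⟩ := hf.exists_coord le_rfl (eB g')
    obtain ⟨c, hc⟩ := (toGlobal_bijective _ h0).2 r
    refine ⟨c, eB.injective ?_⟩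
    rw [hr, AModX.res_self, ← hc]
    exact (he1 c g).symm

/-- A fibre on which the module and its inverse have nonzero sections is trivial. -/
theorem fibreTriv_of_forms {L D : X.Modules} (hL : PicF.IsInvertible L) (hD : PicF.IsInvertible D)
    (φ : CohB1.tensorMod L D ≅ Coh.structureModule X) {Q Q' : ModuleCat.{u} A}
    {e : (Q →ₗ[A] A) ≃+ Γ(L, ⊤)} (hQ : SecRep.IsRep L Q e) {e' : (Q' →ₗ[A] A) ≃+ Γ(D, ⊤)} (hQ' : SecRep.IsRep D Q' e')
    (x : PrimeSpectrum A) {g : Q →ₗ[A] x.asIdeal.ResidueField} (hg : g ≠ 0)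
    {g' : Q' →ₗ[A] x.asIdeal.ResidueField} (hg' : g' ≠ 0) : FibreTriv L x := by
  let X' := fibreOf A X x
  let p := pullback.fst π (specAlg A x.asIdeal.ResidueField)
  let v := pullback.snd π (specAlg A x.asIdeal.ResidueField)
  have h0 : Function.Bijective v.appTop := Rigid.bijective_appTop v
  obtain ⟨eB, -⟩ := hQ x.asIdeal.ResidueField _ p v (IsPullback.of_hasPullback π _)
  obtain ⟨eB', -⟩ := hQ' x.asIdeal.ResidueField _ p v (IsPullback.of_hasPullback π _)
  haveI : IsIntegral X' := GeometricallyIntegral.isIntegral_of_subsingleton v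
  have hs : eB g ≠ 0 := fun h => hg (eB.injective (h.trans (map_zero eB).symm))
  have hs' : eB' g' ≠ 0 := fun h => hg' (eB'.injective (h.trans (map_zero eB').symm))
  have hP := PicClLib.isInvertible_pullback p hL
  have hP' := PicClLib.isInvertible_pullback p hD
  have hne : locus (eB g) ⊓ locus (eB' g') ≠ ⊥ := by
    intro h
    obtain ⟨z, hz⟩ := Opens.ne_bot_iff_nonempty _ |>.1 (locus_ne_bot hP hs)
    obtain ⟨z', hz'⟩ := Opens.ne_bot_iff_nonempty _ |>.1 (locus_ne_bot hP' hs')
    obtain ⟨w, hw⟩ := nonempty_preirreducible_inter (locus (eB g)).isOpen (locus (eB' g')).isOpen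
      ⟨z, hz⟩ ⟨z', hz'⟩
    exact (Opens.ne_bot_iff_nonempty _).2 ⟨w, hw⟩ h
  let ψ : CohB1.tensorMod ((Scheme.Modules.pullback p).obj L) ((Scheme.Modules.pullback p).obj D) ≅
      Coh.structureModule X' :=
    (PicMul.pull p L D).some.symm ≪≫ (Scheme.Modules.pullback p).mapIso φ ≪≫
      (PicClLib.nonempty_pullback_structureModule p).some
  let m := mulHom (ofSect (eB g)) (ofSect (eB' g'))
  have hloc : locus (one m) = locus (eB g) ⊓ locus (eB' g') := by
    refine Eq.trans ?_ (genLocus_mulHom hP hP' (ofSect (eB g)) (ofSect (eB' g')))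
    show CohB1.genLocus _ (ofSect (one m)) = CohB1.genLocus _ m
    congr 1
    show ofSect (one (ofSect _)) = ofSect _
    rw [one_ofSect]
  have hm : one m ≠ 0 := by
    intro h
    refine hne (hloc.symm.trans ?_)
    refine bot_unique fun z hz => ?_
    obtain ⟨U, hzU, hU⟩ := mem_locus_iff.1 hz
    rw [h, map_zero] at hU
    have h01 := hU.coord_unique le_rfl (r := (0 : Γ(X', U))) (r' := 1) (by simp)
    have : U = ⊥ := by
      rw [← X'.basicOpen_of_isUnit (isUnit_one : IsUnit (1 : Γ(X', U))), ← h01, Scheme.basicOpen_zero]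
    exact this ▸ hzU
  have hframe : IsFrame (one m) := TrivBasic.isFrame_of_ne_zero ⟨ψ⟩ (isField_Γ v h0) hm
  have htop : locus (eB g) ⊓ locus (eB' g') = ⊤ := hloc.symm.trans (locus_eq_top_iff.2 hframe)
  exact triv_of_frame (locus_eq_top_iff.1 (top_le_iff.1 (htop.ge.trans inf_le_left)))

variable [Flat (X ↘ Spec (CommRingCat.of A))] [LocallyOfFinitePresentation (X ↘ Spec (CommRingCat.of A))]

/-- A faithful section gives a trivialisation near a trivial fibre. -/
theorem exists_triv_of_faithful {L : X.Modules} (hL : PicF.IsInvertible L) {x : PrimeSpectrum A}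
    (hT : FibreTriv L x) (t : Γ(L, ⊤))
    (ht : ∀ c : A, (show Γ(X, ⊤) from Coh.toGlobal π c) • t = 0 → c = 0) :
    ∃ U : (Spec (CommRingCat.of A)).Opens, x ∈ U ∧ ∃ s : Γ(L, π ⁻¹ᵁ U), IsFrame s := by
  obtain ⟨Q, _, e, hQ⟩ := exists_rep (A := A) L hL
  obtain ⟨h1, h2⟩ := line_of_fibreTriv hQ x hT
  obtain ⟨q₀, f, hfx, hcyc⟩ := SeesawMod.exists_generator x (SeesawMod.fibreRank_eq_one x h1 h2)
  haveI : IsIso (Spec.map (CommRingCat.ofHom (algebraMap A A))) := by
    rw [Algebra.algebraMap_self, CommRingCat.ofHom_id, Spec.map_id]; infer_instance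
  obtain ⟨eA, he1, -⟩ := hQ A X (𝟙 X) π (IsPullback.of_horiz_isIso ⟨by
    rw [Algebra.algebraMap_self, CommRingCat.ofHom_id, Spec.map_id, Category.comp_id, Category.id_comp]⟩)
  let i := (Scheme.Modules.pullbackId X).app L
  obtain ⟨ψ', hψ'⟩ := SeesawSub.exists_form_of_faithful hcyc x.asIdeal hfx (eA.symm (i.inv.app ⊤ t)) fun a ha => ht a (by
    have h := he1 a (eA.symm (i.inv.app ⊤ t))
    rw [ha, map_zero, eA.apply_symm_apply] at h
    have h' := congrArg (i.hom.app ⊤) h
    rw [map_zero, Scheme.Modules.Hom.app_smul] at h'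
    rw [show i.hom.app ⊤ (i.inv.app ⊤ t) = t from congr(($(i.inv_hom_id)).app ⊤ t)] at h'
    exact h'.symm)
  obtain ⟨eK, -, he2⟩ := hQ x.asIdeal.ResidueField _ _ _ (IsPullback.of_hasPullback π _)
  have h0 : FibreH0 X x := Rigid.bijective_appTop _
  have hfr : IsFrame (show Γ((Scheme.Modules.pullback (pullback.fst π (specAlg A x.asIdeal.ResidueField))).obj L, ⊤)
      from pullElt (pullback.fst π (specAlg A x.asIdeal.ResidueField)) (e ψ')) :=
    TrivBasic.isFrame_of_ne_zero hT (isField_Γ _ h0) fun h => hψ' (eK.injective (((he2 ψ').trans h).trans (map_zero eK).symm))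
  let C : Set ↥(Spec (CommRingCat.of A)) := π '' ((locus (e ψ') : Set X)ᶜ)
  have hC : IsClosed C := (Scheme.Hom.isClosedMap π) _ (locus (e ψ')).isOpen.isClosed_compl
  refine ⟨⟨Cᶜ, hC.isOpen_compl⟩, fun hx => ?_, _, isFrame_res_of_le_locus (s := e ψ') fun y hy => ?_⟩
  · obtain ⟨y, hy, hyx⟩ := hx
    obtain ⟨z, hz⟩ := exists_fibre_point x y hyx
    exact hy (hz ▸ mem_locus_of_pullElt hL _ _ hfr z)
  · by_contra hy'
    exact hy ⟨y, hy', rfl⟩

end Groth.Agent.SeesawGen
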