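import Groth.Agent.SeesawGen.Locus
import Groth.Agent.LineDesc.RelPic
import Groth.Agent.EtFound.Descent
import Groth.Agent.GrpSchLib.AntiAffineBC

/-!
# The diagonal of a representing Picard scheme
-/

set_option autoImplicit false
set_option linter.style.haveILetI false
set_option backward.isDefEq.respectTransparency false
set_option backward.isDefEq.respectTransparency.types false
set_option maxHeartbeats 1000000

universe u

open CategoryTheory CategoryTheory.Limits AlgebraicGeometry TopologicalSpace Opposite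

noncomputable section

namespace Groth.Agent.SeesawGen

open Groth.Agent Groth.Agent.InvX Groth.Agent.H23 Groth.Agent.H23.TrivBasic Groth.Agent.H23.Seesaw
open scoped Groth.Agent.H23.PicMul

/-- Being a closed immersion can be checked on an fppf covering of the target. -/
theorem isClosedImmersion_of_cover {D W : Scheme.{u}} (q : D ⟶ W) {R : Presieve W} (hR : R ∈ Scheme.fppfPrecoverage W)
    (h : ∀ ⦃U : Scheme.{u}⦄ (u : U ⟶ W), R u → IsClosedImmersion (pullback.snd q u)) : IsClosedImmersion q := by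
  obtain ⟨Ui, ui, hui, hfl, hfp, hsu⟩ := LineDesc.Rig.exists_small_cover hR
  have := EtFound.fpqc_isClosedImmersion.{u}
  refine MorphismProperty.of_pullback_snd_of_descendsAlong (P := @IsClosedImmersion)
    (Q := @Surjective ⊓ @Flat ⊓ @LocallyOfFinitePresentation) (f := q) (g := Sigma.desc ui) ⟨⟨hsu, hfl⟩, hfp⟩ ?_
  refine (IsZariskiLocalAtTarget.iff_of_openCover (P := @IsClosedImmersion) (sigmaOpenCover Ui)).2 fun t => ?_
  let e : pullback (pullback.snd q (Sigma.desc ui)) (Sigma.ι Ui t) ≅ pullback q (ui t) :=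
    pullbackLeftPullbackSndIso q (Sigma.desc ui) (Sigma.ι Ui t) ≪≫ pullback.congrHom rfl (Sigma.ι_desc ui t)
  have he : e.hom ≫ pullback.snd q (ui t) = pullback.snd (pullback.snd q (Sigma.desc ui)) (Sigma.ι Ui t) := by
    simp [e]
  show IsClosedImmersion (pullback.snd (pullback.snd q (Sigma.desc ui)) (Sigma.ι Ui t))
  rw [← he]
  exact MorphismProperty.RespectsIso.precomp @IsClosedImmersion e.hom _ (h _ (hui t))

section Diagonal

variable {S : Scheme.{u}} (P : Over S)

local notation "Δ" => pullback.diagonal P.hom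

theorem clDiag_of_cover {T : Scheme.{u}} (z : T ⟶ pullback P.hom P.hom) {R : Presieve T}
    (hR : R ∈ Scheme.fppfPrecoverage T)
    (h : ∀ ⦃U : Scheme.{u}⦄ (u : U ⟶ T), R u → IsClosedImmersion (pullback.snd Δ (u ≫ z))) :
    IsClosedImmersion (pullback.snd Δ z) := by
  refine isClosedImmersion_of_cover _ hR fun U u hu => ?_
  rw [← pullbackLeftPullbackSndIso_hom_snd Δ z u]
  exact MorphismProperty.RespectsIso.precomp @IsClosedImmersion _ _ (h u hu)

theorem clDiag_of_openCover {T : Scheme.{u}} (z : T ⟶ pullback P.hom P.hom) (𝒰 : T.OpenCover)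
    (h : ∀ i, IsClosedImmersion (pullback.snd Δ (𝒰.f i ≫ z))) : IsClosedImmersion (pullback.snd Δ z) := by
  refine (IsZariskiLocalAtTarget.iff_of_openCover (P := @IsClosedImmersion) 𝒰).2 fun i => ?_
  show IsClosedImmersion (pullback.snd (pullback.snd Δ z) (𝒰.f i))
  rw [← pullbackLeftPullbackSndIso_hom_snd Δ z (𝒰.f i)]
  exact MorphismProperty.RespectsIso.precomp @IsClosedImmersion _ _ (h i)

/-- The equaliser of two points, recognised by its universal property. -/
theorem clDiag_of_equalizer {T : Scheme.{u}} (z : T ⟶ pullback P.hom P.hom) {Z : Scheme.{u}} (ι : Z ⟶ T)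
    [IsClosedImmersion ι] (h1 : ι ≫ z ≫ pullback.fst _ _ = ι ≫ z ≫ pullback.snd _ _)
    (h2 : ∀ {U : Scheme.{u}} (u : U ⟶ T), u ≫ z ≫ pullback.fst _ _ = u ≫ z ≫ pullback.snd _ _ →
      ∃ v : U ⟶ Z, v ≫ ι = u) : IsClosedImmersion (pullback.snd Δ z) := by
  let w : Z ⟶ pullback Δ z := pullback.lift (ι ≫ z ≫ pullback.fst _ _) ι
    (pullback.hom_ext (by simp) (by simp [h1]))
  have hw : w ≫ pullback.snd Δ z = ι := pullback.lift_snd _ _ _
  have hu : pullback.snd Δ z ≫ z ≫ pullback.fst _ _ = pullback.snd Δ z ≫ z ≫ pullback.snd _ _ := by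
    rw [← pullback.condition_assoc, ← pullback.condition_assoc, pullback.diagonal_fst, pullback.diagonal_snd]
  obtain ⟨v, hv⟩ := h2 _ hu
  haveI : Mono ι := inferInstance
  haveI : Mono (pullback.snd Δ z) := inferInstance
  haveI : IsIso v := ⟨w, by rw [← cancel_mono (pullback.snd Δ z), Category.assoc, hw, hv, Category.id_comp],
    by rw [← cancel_mono ι, Category.assoc, hv, hw, Category.id_comp]⟩
  rw [← hv]
  infer_instance

end Diagonal

variable {X S : Scheme.{u}} {f : X ⟶ S}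

theorem triv_pullback_fst_iff {T T' : Over S} (g : T' ⟶ T) (L : (PicF.XT f T).Modules) :
    Triv ((Scheme.Modules.pullback (pullback.fst (pullback.snd f T.hom) g.left)).obj L) ↔
      PicF.pullCl (PicF.XTmap f g) (PicF.cl L) = 1 := by
  let e := (LineDesc.Rig.isPullback_XTmap (f := f) g).isoPullback
  have he : e.hom ≫ pullback.fst _ _ = PicF.XTmap f g := (LineDesc.Rig.isPullback_XTmap (f := f) g).isoPullback_hom_fst
  have he' : e.inv ≫ PicF.XTmap f g = pullback.fst _ _ := (LineDesc.Rig.isPullback_XTmap (f := f) g).isoPullback_inv_fst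
  exact ⟨fun h => (PicGrp.cl_eq_cl_iff _ _).2 (SeesawGlobal.triv_of_factor e.hom he h),
    fun h => SeesawGlobal.triv_of_factor e.inv he' ((PicGrp.cl_eq_cl_iff _ _).1 h)⟩

section Affine

variable [IsProper f] [Flat f] [LocallyOfFinitePresentation f] [GeometricallyIntegral f]
variable {P : Over S} {φ : ∀ T : Over S, PicF.Cl (PicF.XT f T) → (T ⟶ P)}

theorem clDiag_affine (hP : AbDual.IsRelPicK Scheme.fppfPrecoverage f P φ) {A : Type u} [CommRing A]
    (z : Spec (CommRingCat.of A) ⟶ pullback P.hom P.hom)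
    (t : Spec (CommRingCat.of A) ⟶ S) (a b : Over.mk t ⟶ P)
    (ha : a.left = z ≫ pullback.fst _ _) (hb : b.left = z ≫ pullback.snd _ _)
    {c1 c2 : PicF.Cl (PicF.XT f (Over.mk t))} (h1 : PicF.IsInvertibleCl c1) (h2 : PicF.IsInvertibleCl c2)
    (e1 : φ (Over.mk t) c1 = a) (e2 : φ (Over.mk t) c2 = b) :
    IsClosedImmersion (pullback.snd (pullback.diagonal P.hom) z) := by
  letI : (pullback f t).Over (Spec (CommRingCat.of A)) := ⟨pullback.snd f t⟩
  haveI : IsProper (pullback f t ↘ Spec (CommRingCat.of A)) := inferInstanceAs (IsProper (pullback.snd f t))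
  haveI : Flat (pullback f t ↘ Spec (CommRingCat.of A)) := inferInstanceAs (Flat (pullback.snd f t))
  haveI : LocallyOfFinitePresentation (pullback f t ↘ Spec (CommRingCat.of A)) :=
    inferInstanceAs (LocallyOfFinitePresentation (pullback.snd f t))
  haveI : GeometricallyIntegral (pullback f t ↘ Spec (CommRingCat.of A)) :=
    inferInstanceAs (GeometricallyIntegral (pullback.snd f t))
  obtain ⟨L1, rfl, hL1⟩ := h1
  obtain ⟨L2, rfl, hL2⟩ := h2
  obtain ⟨D2, hD2, e⟩ := PicInv.exists_inverse hL2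
  have hLD : PicF.cl L2 * PicF.cl D2 = 1 := (PicGrp.cl_eq_cl_iff _ _).2 e
  let L := CohB1.tensorMod L1 D2
  have hL : PicF.IsInvertible L := InvX.isInvertible_tensorMod hL1 hD2
  obtain ⟨I, hI, hkill⟩ := exists_locus (A := A) (X := pullback f t) (L := L) hL
  haveI : IsClosedImmersion (specAlg A (A ⧸ I)) := IsClosedImmersion.spec_of_surjective _ Ideal.Quotient.mk_surjective
  refine clDiag_of_equalizer P z (specAlg A (A ⧸ I)) ?_ fun {U} u hu => ?_
  · choose V hV hTV using hI
    refine Scheme.Cover.hom_ext ((Spec (CommRingCat.of (A ⧸ I))).openCoverOfIsOpenCover V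
      (eq_top_iff.2 fun p _ => Opens.mem_iSup.2 ⟨p, hV p⟩)) _ _ fun p => ?_
    let g : Over.mk ((V p).ι ≫ specAlg A (A ⧸ I) ≫ t) ⟶ Over.mk t :=
      Over.homMk ((V p).ι ≫ specAlg A (A ⧸ I)) (Category.assoc _ _ _)
    have hg : PicF.pullCl (PicF.XTmap f g) (PicF.cl L) = 1 := (triv_pullback_fst_iff g L).1 (hTV p)
    rw [PicMul.cl_tensor, PicMul.pullCl_mul] at hg
    have hLD' := congrArg (PicF.pullCl (PicF.XTmap f g)) hLD
    rw [PicMul.pullCl_mul, PicMul.pullCl_one] at hLD'
    have heq : PicF.pullCl (PicF.XTmap f g) (PicF.cl L1) = PicF.pullCl (PicF.XTmap f g) (PicF.cl L2) := by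
      calc PicF.pullCl (PicF.XTmap f g) (PicF.cl L1)
          = PicF.pullCl (PicF.XTmap f g) (PicF.cl L1) * (PicF.pullCl (PicF.XTmap f g) (PicF.cl L2) *
            PicF.pullCl (PicF.XTmap f g) (PicF.cl D2)) := by rw [hLD', _root_.mul_one]
        _ = PicF.pullCl (PicF.XTmap f g) (PicF.cl L2) := by rw [mul_left_comm, hg, _root_.mul_one]
    have h := (congrArg (φ _) heq)
    rw [hP.natural _ _ g _ ⟨L1, rfl, hL1⟩, hP.natural _ _ g _ ⟨L2, rfl, hL2⟩] at h
    have h' := congrArg CommaMorphism.left h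
    simp only [Over.comp_left, g, Over.homMk_left, Category.assoc] at h'
    erw [e1, e2, ha, hb] at h'
    simpa using h'
  · let g : Over.mk (u ≫ t) ⟶ Over.mk t := Over.homMk u rfl
    have hφ : φ _ (PicF.pullCl (PicF.XTmap f g) (PicF.cl L1)) = φ _ (PicF.pullCl (PicF.XTmap f g) (PicF.cl L2)) := by
      erw [hP.natural _ _ g _ ⟨L1, rfl, hL1⟩, hP.natural _ _ g _ ⟨L2, rfl, hL2⟩, e1, e2]
      refine Over.OverMorphism.ext ?_
      show u ≫ a.left = u ≫ b.left
      rw [ha, hb]
      exact hu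
    obtain ⟨R, hR, hRe⟩ := hP.locallyInjective _ _ _ (PicClLib.isInvertibleCl_pullCl _ ⟨L1, rfl, hL1⟩)
      (PicClLib.isInvertibleCl_pullCl _ ⟨L2, rfl, hL2⟩) hφ
    obtain ⟨Ui, ui, hui, hfl, hfp, hsu⟩ := LineDesc.Rig.exists_small_cover hR
    haveI := hfl
    haveI := hsu
    have hrel : SeesawSub.RelTriv (pullback f t ↘ Spec (CommRingCat.of A)) L (Sigma.desc ui ≫ u) := by
      refine SeesawSub.relTriv_of_cover fun p => ?_
      obtain ⟨⟨i, y⟩, hy⟩ := (sigmaMk Ui).surjective p
      rw [sigmaMk_mk] at hy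
      refine ⟨_, Sigma.ι Ui i, inferInstance, ⟨y, hy⟩, fun q => ⟨⊤, trivial, ?_⟩⟩
      let g' := AbDual.ovrHom (Over.mk (u ≫ t)) (ui i) ≫ g
      have h := hRe (ui i) (hui i)
      rw [LineDesc.Rig.pullCl_XTmap_comp, LineDesc.Rig.pullCl_XTmap_comp] at h
      have h1 : PicF.pullCl (PicF.XTmap f g') (PicF.cl L) = 1 := by
        rw [PicMul.cl_tensor, PicMul.pullCl_mul, h, ← PicMul.pullCl_mul, hLD, PicMul.pullCl_one]
      refine SeesawGlobal.triv_pullback_of_factor (⊤ : Scheme.Opens (Ui i)).ι ?_ ((triv_pullback_fst_iff g' L).2 h1)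
      show _ ≫ ui i ≫ u = _ ≫ Sigma.ι Ui i ≫ Sigma.desc ui ≫ u
      rw [colimit.ι_desc_assoc]
      rfl
    haveI : Epi (Sigma.desc ui) := Flat.epi_of_flat_of_surjective _
    have hu0 : ∀ x ∈ I, u.appTop ((Scheme.ΓSpecIso (CommRingCat.of A)).inv x) = 0 := fun x hx => by
      apply GrpSchLib.AntiAffine.appTop_injective_of_epi (Sigma.desc ui)
      refine Eq.trans ?_ (map_zero _).symm
      have h := hkill _ _ hrel x hx
      rwa [Scheme.Hom.comp_appTop] at h
    let ψ : A →+* Γ(U, ⊤) := ((Scheme.ΓSpecIso (CommRingCat.of A)).inv ≫ u.appTop).hom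
    refine ⟨U.toSpecΓ ≫ Spec.map (CommRingCat.ofHom (Ideal.Quotient.lift I ψ hu0)), ?_⟩
    rw [Category.assoc, specAlg, ← Spec.map_comp]
    have hcomp : CommRingCat.ofHom (algebraMap A (A ⧸ I)) ≫ CommRingCat.ofHom (Ideal.Quotient.lift I ψ hu0) =
        (Scheme.ΓSpecIso (CommRingCat.of A)).inv ≫ u.appTop := CommRingCat.hom_ext (RingHom.ext fun _ => rfl)
    rw [hcomp, Spec.map_comp, ← Scheme.toSpecΓ_naturality_assoc, ← Scheme.isoSpec_Spec_inv]
    exact (congrArg (u ≫ ·) (Scheme.isoSpec _).hom_inv_id).trans (Category.comp_id u)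

end Affine

end Groth.Agent.SeesawGen
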