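import Groth.Agent.SeesawGen.Locus
import Groth.Agent.SeesawGen.Rep
import Groth.Agent.S16759
import Groth.Agent.AmpleVan.LiftFibre

/-!
# Openness of fibrewise triviality when the first cohomology of the fibres vanishes

Over an arbitrary base: for a proper flat finitely presented morphism with geometrically integral fibres without first
cohomology of the structure sheaf, the points over which an invertible module is trivial form a clopen set, and the module
comes from the base when this is everything.
-/

set_option autoImplicit false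
set_option linter.style.haveILetI false
set_option backward.isDefEq.respectTransparency false
set_option backward.isDefEq.respectTransparency.types false
set_option maxHeartbeats 1000000

universe u

open CategoryTheory CategoryTheory.Limits AlgebraicGeometry TopologicalSpace Opposite

noncomputable section

namespace Groth.Agent.SeesawGen

open Groth.Agent Groth.Agent.InvX Groth.Agent.H23 Groth.Agent.H23.TrivBasic Groth.Agent.H23.Seesaw

section Local

variable {A : Type u} [CommRing A] {X : Scheme.{u}} [X.Over (Spec (CommRingCat.of A))]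
  [IsProper (X ↘ Spec (CommRingCat.of A))] [Flat (X ↘ Spec (CommRingCat.of A))]
  [LocallyOfFinitePresentation (X ↘ Spec (CommRingCat.of A))] [GeometricallyIntegral (X ↘ Spec (CommRingCat.of A))]

local notation "π" => (X ↘ Spec (CommRingCat.of A))

/-- A module trivial on a fibre without first cohomology is trivial near it. -/
theorem exists_frame_of_h1 {L : X.Modules} (hL : PicF.IsInvertible L) (x : PrimeSpectrum A) (hT : FibreTriv L x)
    (X' : Scheme.{u}) (φ : X' ⟶ X) (pB : X' ⟶ Spec (CommRingCat.of x.asIdeal.ResidueField))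
    (hpb : IsPullback φ pB π (specAlg A x.asIdeal.ResidueField))
    (h1 : Subsingleton (Coh.HH X' (Coh.structureModule X') 1)) :
    ∃ U : (Spec (CommRingCat.of A)).Opens, x ∈ U ∧ ∃ s : Γ(L, π ⁻¹ᵁ U), IsFrame s := by
  obtain ⟨Q, _, e, hQ, hlift⟩ := exists_rep_lift (A := A) L hL
  obtain ⟨i⟩ := SeesawGlobal.triv_of_factor hpb.isoPullback.hom hpb.isoPullback_hom_fst hT
  obtain ⟨f, hf⟩ := hlift x.asIdeal.ResidueField X' φ pB hpb (AmpleVan.subsingleton_of_iso i.symm 1 h1)
    (line_of_fibreTriv hQ x hT).1
  obtain ⟨eK, -, he2⟩ := hQ x.asIdeal.ResidueField _ _ _ (IsPullback.of_hasPullback π _)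
  have h0 : FibreH0 X x := Rigid.bijective_appTop _
  have hfr : IsFrame (show Γ((Scheme.Modules.pullback (pullback.fst π (specAlg A x.asIdeal.ResidueField))).obj L, ⊤)
      from pullElt (pullback.fst π (specAlg A x.asIdeal.ResidueField)) (e f)) :=
    TrivBasic.isFrame_of_ne_zero hT (isField_Γ _ h0) fun h => hf (eK.injective (((he2 f).trans h).trans (map_zero eK).symm))
  let C : Set ↥(Spec (CommRingCat.of A)) := π '' ((locus (e f) : Set X)ᶜ)
  have hC : IsClosed C := (Scheme.Hom.isClosedMap π) _ (locus (e f)).isOpen.isClosed_compl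
  refine ⟨⟨Cᶜ, hC.isOpen_compl⟩, fun hx => ?_, _, isFrame_res_of_le_locus (s := e f) fun y hy => ?_⟩
  · obtain ⟨y, hy, hyx⟩ := hx
    obtain ⟨z, hz⟩ := exists_fibre_point x y hyx
    exact hy (hz ▸ mem_locus_of_pullElt hL _ _ hfr z)
  · by_contra hy'
    exact hy ⟨y, hy', rfl⟩

/-- The fibres on which the module is trivial form a closed set. -/
theorem isClosed_fibreTriv {L : X.Modules} (hL : PicF.IsInvertible L) :
    IsClosed {x : Spec (CommRingCat.of A) | FibreTriv L x} := by
  obtain ⟨I, hI, hkill⟩ := exists_locus (A := A) hL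
  have heq : {x : Spec (CommRingCat.of A) | FibreTriv L x} = PrimeSpectrum.zeroLocus (I : Set A) := by
    ext x
    let K := x.asIdeal.ResidueField
    refine ⟨fun hx a ha => ?_, fun hx => ?_⟩
    · have hrel : SeesawSub.RelTriv π L (specAlg A K) := fun t =>
        ⟨⊤, trivial, SeesawGlobal.triv_pullback_of_factor (⊤ : (Spec (CommRingCat.of K)).Opens).ι rfl hx⟩
      have h := hkill _ _ hrel a ha
      rw [← ConcreteCategory.comp_apply, specAlg, ← Scheme.ΓSpecIso_inv_naturality, ConcreteCategory.comp_apply] at h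
      have h' : algebraMap A K a = 0 :=
        (ConcreteCategory.bijective_of_isIso (Scheme.ΓSpecIso (CommRingCat.of K)).inv).1 (h.trans (map_zero _).symm)
      exact Ideal.algebraMap_residueField_eq_zero.1 h'
    · let q : A ⧸ I →+* K := Ideal.Quotient.lift I (algebraMap A K) fun a ha =>
        Ideal.algebraMap_residueField_eq_zero.2 (hx ha)
      have hrel := SeesawSub.RelTriv.comp hI (Spec.map (CommRingCat.ofHom q))
      have hq : Spec.map (CommRingCat.ofHom q) ≫ specAlg A (A ⧸ I) = specAlg A K := by
        rw [specAlg, specAlg, ← Spec.map_comp]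
        rfl
      rw [hq] at hrel
      haveI : Nonempty ↥(Spec (CommRingCat.of K)) := inferInstanceAs (Nonempty (PrimeSpectrum K))
      obtain ⟨t⟩ : Nonempty ↥(Spec (CommRingCat.of K)) := inferInstance
      obtain ⟨V, hV, hTV⟩ := hrel t
      have hVtop : Set.range (𝟙 (Spec (CommRingCat.of K)) : _ ⟶ _) ⊆ Set.range V.ι := fun y _ => by
        rw [Scheme.Opens.range_ι]
        haveI : Subsingleton ↥(Spec (CommRingCat.of K)) := inferInstanceAs (Subsingleton (PrimeSpectrum K))
        exact Subsingleton.elim t y ▸ hV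
      exact SeesawGlobal.triv_pullback_of_factor (IsOpenImmersion.lift V.ι (𝟙 _) hVtop)
        (by rw [IsOpenImmersion.lift_fac_assoc, Category.id_comp]) hTV
  rw [heq]
  exact PrimeSpectrum.isClosed_zeroLocus _

end Local

variable {X S : Scheme.{u}} (f : X ⟶ S)

/-- The fibres have no first cohomology. -/
def H1Zero : Prop :=
  ∀ (K : Type u) [Field K] (k : Spec (CommRingCat.of K) ⟶ S),
    Subsingleton (Coh.HH (pullback f k) (Coh.structureModule (pullback f k)) 1)

theorem exists_affine_chart (s : S) : ∃ (A : Type u) (_ : CommRing A) (g : Spec (CommRingCat.of A) ⟶ S)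
    (_ : IsOpenImmersion g) (x : ↥(Spec (CommRingCat.of A))), g x = s := by
  obtain ⟨_, ⟨U, hU, rfl⟩, hsU, -⟩ :=
    S.isBasis_affineOpens.exists_subset_of_mem_open (Set.mem_univ s) isOpen_univ
  have hU' : IsAffineOpen U := hU
  obtain ⟨x, hx⟩ : s ∈ Set.range hU'.fromSpec := by rwa [hU'.range_fromSpec]
  exact ⟨Γ(S, U), inferInstance, hU'.fromSpec, inferInstance, x, hx⟩

instance lfp_chart [LocallyOfFinitePresentation f] (A : Type u) [CommRing A] (g : Spec (CommRingCat.of A) ⟶ S) :
    LocallyOfFinitePresentation (SeesawGlobal.chart f A g ↘ Spec (CommRingCat.of A)) :=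
  inferInstanceAs (LocallyOfFinitePresentation (pullback.snd f g))

variable [IsProper f] [Flat f] [LocallyOfFinitePresentation f] [GeometricallyIntegral f]
variable {f} {L : X.Modules} (hL : PicF.IsInvertible L)

include hL in
theorem exists_frame_of_fieldTriv (h1 : H1Zero f) {s : S} (hs : SeesawGlobal.FieldTriv f L s) :
    ∃ V : S.Opens, s ∈ V ∧ ∃ t : Γ(L, f ⁻¹ᵁ V), IsFrame t := by
  obtain ⟨A, _, g, _, x, rfl⟩ := exists_affine_chart s
  let k := specAlg A x.asIdeal.ResidueField
  let φ : pullback f (k ≫ g) ⟶ SeesawGlobal.chart f A g :=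
    pullback.lift (pullback.fst _ _) (pullback.snd _ _ ≫ k) (by rw [Category.assoc]; exact pullback.condition)
  have hpb : IsPullback φ (pullback.snd f (k ≫ g)) (SeesawGlobal.chart f A g ↘ Spec (CommRingCat.of A)) k :=
    IsPullback.of_right (h₁₂ := pullback.fst f g) (h₂₂ := g) (by
      rw [show φ ≫ pullback.fst f g = pullback.fst f (k ≫ g) from pullback.lift_fst _ _ _]
      exact IsPullback.of_hasPullback f (k ≫ g)) (pullback.lift_snd _ _ _) (IsPullback.of_hasPullback f g)
  exact SeesawGlobal.exists_frame_of_chart f A g (exists_frame_of_h1 (PicClLib.isInvertible_pullback _ hL) x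
    (SeesawGlobal.fibreTriv_chart f A g hs) _ φ _ hpb (h1 _ _))

include hL in
theorem isClosed_fieldTriv : IsClosed {s : S | SeesawGlobal.FieldTriv f L s} := by
  refine isOpen_compl_iff.1 (isOpen_iff_forall_mem_open.2 fun s hs => ?_)
  obtain ⟨A, _, g, _, x, rfl⟩ := exists_affine_chart s
  have hc := isClosed_fibreTriv (A := A) (X := SeesawGlobal.chart f A g)
    (L := SeesawGlobal.chartMod f L A g) (PicClLib.isInvertible_pullback _ hL)
  refine ⟨g '' {y | FibreTriv (SeesawGlobal.chartMod f L A g) y}ᶜ, ?_,
    g.isOpenEmbedding.isOpenMap _ hc.isOpen_compl, x, fun h => hs (SeesawGlobal.fieldTriv_of_chart f A g h), rfl⟩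
  rintro _ ⟨y, hy, rfl⟩ hy'
  exact hy (SeesawGlobal.fibreTriv_chart f A g hy')

include hL in
/-- Over a connected base, triviality on one fibre makes the module a pullback from the base. -/
theorem exists_pullback_of_h1 [PreconnectedSpace S] (h1 : H1Zero f) (hb : ∀ V : S.Opens, Function.Bijective (f.app V))
    {s₀ : S} (hs : SeesawGlobal.FieldTriv f L s₀) :
    ∃ M : S.Modules, PicF.IsInvertible M ∧ Nonempty (L ≅ (Scheme.Modules.pullback f).obj M) := by
  have hopen : IsOpen {s : S | SeesawGlobal.FieldTriv f L s} := isOpen_iff_forall_mem_open.2 fun s hs => by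
    obtain ⟨V, hV, t, ht⟩ := exists_frame_of_fieldTriv hL h1 hs
    refine ⟨V, fun y hy => ?_, V.isOpen, hV⟩
    intro K _ k hk
    have hr : Set.range (pullback.fst f k) ⊆ Set.range (f ⁻¹ᵁ V).ι := by
      rw [Scheme.Opens.range_ι]
      rintro _ ⟨p, rfl⟩
      show f (pullback.fst f k p) ∈ V
      rw [← Scheme.Hom.comp_apply, pullback.condition, Scheme.Hom.comp_apply,
        Subsingleton.elim (pullback.snd f k p) (IsLocalRing.closedPoint K), hk]
      exact hy
    obtain ⟨φ⟩ := nonempty_iso_of_isFrame ht
    exact SeesawGlobal.triv_of_factor (IsOpenImmersion.lift _ _ hr) (IsOpenImmersion.lift_fac _ _ _)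
      (Triv.of_iso ((Scheme.Modules.restrictFunctorIsoPullback (f ⁻¹ᵁ V).ι).app _) ⟨φ⟩)
  have hall : ∀ s, SeesawGlobal.FieldTriv f L s := fun s =>
    (IsClopen.eq_univ ⟨isClosed_fieldTriv hL, hopen⟩ ⟨s₀, hs⟩).ge (Set.mem_univ s)
  obtain ⟨h2, h3⟩ := Groth.Agent.S16759.of_local f hb L fun s => exists_frame_of_fieldTriv hL h1 (hall s)
  exact ⟨_, h2, ⟨(asIso ((Scheme.Modules.pullbackPushforwardAdjunction f).counit.app L)).symm⟩⟩

end Groth.Agent.SeesawGen
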