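import Groth.Agent.SeesawGen.Locus
import Mathlib.RingTheory.Nakayama
import Mathlib.Algebra.Module.FinitePresentation

/-!
# Openness of fibrewise triviality when triviality lifts along small extensions
-/

set_option autoImplicit false
set_option linter.style.haveILetI false
set_option backward.isDefEq.respectTransparency false
set_option backward.isDefEq.respectTransparency.types false
set_option maxHeartbeats 1000000

universe u

open CategoryTheory CategoryTheory.Limits AlgebraicGeometry TopologicalSpace Opposite TensorProduct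

noncomputable section

namespace Groth.Agent.SeesawGen

open Groth.Agent Groth.Agent.InvX Groth.Agent.H23 Groth.Agent.H23.TrivBasic Groth.Agent.H23.Seesaw

/-- A nonzero finitely generated ideal of a local ring contains an ideal of colength one containing its product with the
maximal ideal. -/
theorem exists_hyperplane {O : Type u} [CommRing O] [IsLocalRing O] {I : Ideal O} (hI : I.FG) (h0 : I ≠ ⊥) :
    ∃ (H : Ideal O) (z : O), IsLocalRing.maximalIdeal O * I ≤ H ∧ z ∈ I ∧ z ∉ H ∧ I ≤ H ⊔ Ideal.span {z} := by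
  classical
  let m := IsLocalRing.maximalIdeal O
  obtain ⟨s, hs⟩ := hI
  have hex : ∃ n, ∃ t : Finset O, t.card = n ∧ (t : Set O) ⊆ I ∧ I ≤ Ideal.span (t : Set O) ⊔ m * I :=
    ⟨_, s, rfl, fun a ha => hs ▸ Ideal.subset_span ha, by rw [show Ideal.span (s : Set O) = I from hs]; exact le_sup_left⟩
  obtain ⟨t, ht, htI, hgen⟩ := Nat.find_spec hex
  have hne : t.Nonempty := by
    by_contra he
    rw [Finset.not_nonempty_iff_eq_empty] at he
    subst he
    rw [Finset.coe_empty, Ideal.span_empty, bot_sup_eq] at hgen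
    exact h0 (Submodule.eq_bot_of_le_smul_of_le_jacobson_bot m I ⟨s, hs⟩ (by rwa [smul_eq_mul])
      (IsLocalRing.maximalIdeal_le_jacobson ⊥))
  obtain ⟨z, hz⟩ := hne
  have hsplit : Ideal.span (t : Set O) ⊔ m * I = (Ideal.span ((t.erase z : Finset O) : Set O) ⊔ m * I) ⊔ Ideal.span {z} := by
    conv_lhs => rw [← Finset.insert_erase hz, Finset.coe_insert, Ideal.span_insert]
    rw [sup_comm (Ideal.span {z}), sup_assoc, sup_comm (Ideal.span {z}), ← sup_assoc]
  refine ⟨Ideal.span ((t.erase z : Finset O) : Set O) ⊔ m * I, z, le_sup_right, htI hz, fun hzH => ?_, hgen.trans_eq hsplit⟩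
  have hlt : (t.erase z).card < Nat.find hex := ht ▸ Finset.card_erase_lt_of_mem hz
  refine Nat.find_min hex hlt ⟨t.erase z, rfl, fun a ha => htI (Finset.mem_of_mem_erase ha), ?_⟩
  refine (hgen.trans_eq hsplit).trans (sup_le le_rfl ?_)
  rwa [Ideal.span_le, Set.singleton_subset_iff]

variable {A : Type u} [CommRing A] {X : Scheme.{u}} [X.Over (Spec (CommRingCat.of A))]
  [IsProper (X ↘ Spec (CommRingCat.of A))] [Flat (X ↘ Spec (CommRingCat.of A))]
  [LocallyOfFinitePresentation (X ↘ Spec (CommRingCat.of A))] [GeometricallyIntegral (X ↘ Spec (CommRingCat.of A))]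

local notation "π" => (X ↘ Spec (CommRingCat.of A))

/-- Triviality lifts along small extensions at the point. -/
def StepAt (L : X.Modules) (x : PrimeSpectrum A) : Prop :=
  ∀ (B : Type u) [CommRing B] [IsLocalRing B] [Algebra A B],
    (IsLocalRing.maximalIdeal B).comap (algebraMap A B) = x.asIdeal → ∀ ε : B,
      (∀ a ∈ IsLocalRing.maximalIdeal B, a * ε = 0) → ε ≠ 0 → ε ∈ IsLocalRing.maximalIdeal B →
        Triv ((Scheme.Modules.pullback (pullback.fst π (specAlg A (B ⧸ Ideal.span {ε})))).obj L) →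
          Triv ((Scheme.Modules.pullback (pullback.fst π (specAlg A B))).obj L)

/-- Triviality over a local algebra killing the colon ideal of a generator at a trivial fibre. -/
theorem triv_of_colon {L : X.Modules} (hL : PicF.IsInvertible L) {Q : ModuleCat.{u} A} {e : (Q →ₗ[A] A) ≃+ Γ(L, ⊤)}
    (hQ : SecRep.IsRep L Q e) {x : PrimeSpectrum A} (hT : FibreTriv L x) {q₀ : Q} {c : A}
    (hcyc : ∀ q : Q, ∃ d : A, c • q = d • q₀) (B : Type u) [CommRing B] [IsLocalRing B] [Algebra A B]
    (hx : (IsLocalRing.maximalIdeal B).comap (algebraMap A B) = x.asIdeal) (hc : IsUnit (algebraMap A B c))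
    (hI : ∀ a ∈ SeesawSub.colonI c q₀, algebraMap A B a = 0) :
    Triv ((Scheme.Modules.pullback (pullback.fst π (specAlg A B))).obj L) := by
  let g := specAlg A B
  letI : IsProper (SeesawGlobal.chart π B g ↘ Spec (CommRingCat.of B)) := inferInstanceAs (IsProper (pullback.snd π g))
  letI : Flat (SeesawGlobal.chart π B g ↘ Spec (CommRingCat.of B)) := inferInstanceAs (Flat (pullback.snd π g))
  letI : LocallyOfFinitePresentation (SeesawGlobal.chart π B g ↘ Spec (CommRingCat.of B)) :=
    inferInstanceAs (LocallyOfFinitePresentation (pullback.snd π g))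
  letI : GeometricallyIntegral (SeesawGlobal.chart π B g ↘ Spec (CommRingCat.of B)) :=
    inferInstanceAs (GeometricallyIntegral (pullback.snd π g))
  obtain ⟨ψ, hψ⟩ := SeesawSub.exists_form_unit hcyc hc hI
  obtain ⟨eB, he1, -⟩ := hQ B _ _ _ (IsPullback.of_hasPullback π g)
  let b : PrimeSpectrum B := IsLocalRing.closedPoint B
  have hb : x.asIdeal = b.asIdeal.comap (algebraMap A B) := hx.symm
  have hfib : FibreTriv (SeesawGlobal.chartMod π L B g) b := by
    refine SeesawGlobal.triv_chart π B g ?_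
    refine SeesawGlobal.triv_pullback_of_factor
      (Spec.map (CommRingCat.ofHom (Ideal.ResidueField.map x.asIdeal b.asIdeal (algebraMap A B) hb))) ?_ hT
    show Spec.map _ ≫ Spec.map _ = Spec.map _ ≫ Spec.map _
    rw [← Spec.map_comp, ← Spec.map_comp]
    congr 1
    exact CommRingCat.hom_ext (RingHom.ext fun a => Ideal.ResidueField.map_algebraMap _ _ _ _ a)
  obtain ⟨U, hU, s, hs⟩ := exists_triv_of_faithful (A := B) (X := SeesawGlobal.chart π B g)
    (L := SeesawGlobal.chartMod π L B g) (PicClLib.isInvertible_pullback _ hL) hfib (eB ψ) fun d hd => by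
      have h : LinearMap.mulLeft A d ∘ₗ ψ = 0 :=
        eB.injective ((he1 d ψ).trans (hd.trans (map_zero eB).symm))
      have h' := LinearMap.congr_fun h q₀
      simpa [hψ] using h'
  have hUtop : U = ⊤ := eq_top_iff.2 fun p _ =>
    (IsLocalRing.closedPoint_mem_iff (R := B) U).1 hU ▸ (trivial : p ∈ (⊤ : (Spec (CommRingCat.of B)).Opens))
  subst hUtop
  exact triv_of_frame hs

/-- A module trivial on a fibre at which triviality lifts along small extensions is trivial near it. -/
theorem exists_frame_of_step {L : X.Modules} (hL : PicF.IsInvertible L) (x : PrimeSpectrum A) (hT : FibreTriv L x)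
    (hstep : StepAt L x) :
    ∃ U : (Spec (CommRingCat.of A)).Opens, x ∈ U ∧ ∃ s : Γ(L, π ⁻¹ᵁ U), IsFrame s := by
  obtain ⟨Q, _, e, hQ, -⟩ := exists_rep_lift_fp (A := A) L hL
  obtain ⟨h1, h2⟩ := line_of_fibreTriv hQ x hT
  obtain ⟨q₀, c, hcx, hcyc⟩ := SeesawMod.exists_generator x (SeesawMod.fibreRank_eq_one x h1 h2)
  let O := Localization.AtPrime x.asIdeal
  let mQ : Q →ₗ[A] O ⊗[A] Q := TensorProduct.mk A O Q 1
  haveI : IsLocalizedModule x.asIdeal.primeCompl mQ :=
    (isLocalizedModule_iff_isBaseChange x.asIdeal.primeCompl O _).2 (TensorProduct.isBaseChange A Q O)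
  have hcO : IsUnit (algebraMap A O c) := IsLocalization.map_units O (⟨c, hcx⟩ : x.asIdeal.primeCompl)
  let F : O →ₗ[O] O ⊗[A] Q := LinearMap.toSpanSingleton O _ (mQ q₀)
  have hF : Function.Surjective F := by
    intro y
    induction y using TensorProduct.induction_on with
    | zero => exact ⟨0, map_zero _⟩
    | add a b ha hb =>
      obtain ⟨u, rfl⟩ := ha
      obtain ⟨v, rfl⟩ := hb
      exact ⟨u + v, map_add _ _ _⟩
    | tmul r q =>
      obtain ⟨d, hd⟩ := hcyc q
      have h := congrArg mQ hd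
      rw [map_smul, map_smul, ← algebraMap_smul O c, ← algebraMap_smul O d] at h
      refine ⟨r * (↑hcO.unit⁻¹ * algebraMap A O d), ?_⟩
      show (r * (↑hcO.unit⁻¹ * algebraMap A O d)) • mQ q₀ = r ⊗ₜ q
      rw [mul_smul, mul_smul, ← h, ← mul_smul (↑hcO.unit⁻¹ : O), IsUnit.val_inv_mul, one_smul]
      show r • ((1 : O) ⊗ₜ[A] q) = _
      rw [TensorProduct.smul_tmul', smul_eq_mul, mul_one]
  let I : Ideal O := LinearMap.ker F
  have hIfg : I.FG := Module.FinitePresentation.fg_ker F hF
  have hto : ∀ a ∈ SeesawSub.colonI c q₀, algebraMap A O a ∈ I := by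
    rintro a ⟨n, hn⟩
    show algebraMap A O a • mQ q₀ = 0
    have h := congrArg mQ hn
    rw [map_smul, map_zero, ← algebraMap_smul O, map_mul, map_pow, mul_smul] at h
    exact (IsUnit.smul_eq_zero (hcO.pow n)).1 h
  have hfrom : ∀ i ∈ I, ∃ a ∈ SeesawSub.colonI c q₀, Associated (algebraMap A O a) i := by
    intro i hi
    obtain ⟨a, t, rfl⟩ := IsLocalization.exists_mk'_eq x.asIdeal.primeCompl i
    have hu : IsUnit (algebraMap A O t) := IsLocalization.map_units O t
    have h0 : mQ (a • q₀) = mQ 0 := by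
      rw [map_zero, map_smul, ← algebraMap_smul O a, ← IsLocalization.mk'_spec O a t, mul_comm, mul_smul,
        show IsLocalization.mk' O a t • mQ q₀ = 0 from hi, smul_zero]
    obtain ⟨v, hv⟩ := IsLocalizedModule.exists_of_eq (S := x.asIdeal.primeCompl) h0
    refine ⟨(v : A) * a, ⟨0, ?_⟩, ?_⟩
    · rw [pow_zero, one_mul, mul_smul]; exact hv.trans (smul_zero v)
    · refine ⟨((IsLocalization.map_units O v).mul hu).unit⁻¹, ?_⟩
      rw [← IsUnit.mul_left_inj ((IsLocalization.map_units O v).mul hu), mul_assoc, IsUnit.val_inv_mul, mul_one, map_mul,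
        mul_comm (IsLocalization.mk' O a t), mul_assoc, mul_comm (algebraMap A O t) (IsLocalization.mk' O a t),
        IsLocalization.mk'_spec]
  have hmax : ∀ (B : Type u) [CommRing B] [IsLocalRing B] [Algebra A B],
      (IsLocalRing.maximalIdeal B).comap (algebraMap A B) = x.asIdeal → IsUnit (algebraMap A B c) :=
    fun B _ _ _ hB => IsLocalRing.notMem_maximalIdeal.1 fun h => hcx (hB ▸ h : c ∈ x.asIdeal)
  have hI1 : I ≠ ⊤ := fun htop => by
    obtain ⟨g, hg⟩ := h1
    obtain ⟨a, ⟨n, hn⟩, u, hu⟩ := hfrom 1 (htop ▸ Submodule.mem_top)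
    have ha : a ∉ x.asIdeal := fun ha => (IsLocalization.AtPrime.to_map_mem_maximal_iff O x.asIdeal a).2 ha
      (IsUnit.of_mul_eq_one _ hu)
    have hk : ∀ y : A, y ∉ x.asIdeal → algebraMap A x.asIdeal.ResidueField y ≠ 0 := fun y hy h =>
      hy (Ideal.algebraMap_residueField_eq_zero.1 h)
    have hg0 : g q₀ = 0 := by
      have h := congrArg g hn
      rw [map_smul, map_zero, Algebra.smul_def, map_mul, map_pow] at h
      exact (mul_eq_zero.1 h).resolve_left (mul_ne_zero (pow_ne_zero _ (hk c hcx)) (hk a ha))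
    refine hg (LinearMap.ext fun q => ?_)
    obtain ⟨d, hd⟩ := hcyc q
    have h := congrArg g hd
    rw [map_smul, map_smul, hg0, smul_zero, Algebra.smul_def] at h
    exact (mul_eq_zero.1 h).resolve_left (hk c hcx)
  have hIbot : I = ⊥ := by
    by_contra h0
    obtain ⟨H, z, hmH, hzI, hzH, hgen⟩ := exists_hyperplane hIfg h0
    have hHne : H ≠ ⊤ := fun h => hzH (h ▸ Submodule.mem_top)
    haveI : Nontrivial (O ⧸ H) := Ideal.Quotient.nontrivial_iff.2 hHne
    haveI : IsLocalRing (O ⧸ H) := IsLocalRing.of_surjective' (Ideal.Quotient.mk H) Ideal.Quotient.mk_surjective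
    haveI : IsLocalHom (Ideal.Quotient.mk H) := IsLocalHom.of_surjective _ Ideal.Quotient.mk_surjective
    let B := O ⧸ H
    let ε : B := Ideal.Quotient.mk H z
    have hcomap : ∀ a : A, algebraMap A B a ∈ IsLocalRing.maximalIdeal B ↔ a ∈ x.asIdeal := fun a => by
      rw [← IsLocalization.AtPrime.to_map_mem_maximal_iff O x.asIdeal a]
      show Ideal.Quotient.mk H (algebraMap A O a) ∈ _ ↔ _
      rw [← IsLocalRing.maximalIdeal_comap (Ideal.Quotient.mk H)]
      rfl
    have hxB : (IsLocalRing.maximalIdeal B).comap (algebraMap A B) = x.asIdeal := Ideal.ext hcomap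
    have hεm : ε ∈ IsLocalRing.maximalIdeal B := by
      show z ∈ (IsLocalRing.maximalIdeal B).comap (Ideal.Quotient.mk H)
      rw [IsLocalRing.maximalIdeal_comap]
      exact IsLocalRing.le_maximalIdeal hI1 hzI
    have hm : ∀ a ∈ IsLocalRing.maximalIdeal B, a * ε = 0 := by
      intro a ha
      obtain ⟨a', rfl⟩ := Ideal.Quotient.mk_surjective a
      have ha' : a' ∈ IsLocalRing.maximalIdeal O := by
        rw [← IsLocalRing.maximalIdeal_comap (Ideal.Quotient.mk H)]
        exact ha
      rw [← map_mul, Ideal.Quotient.eq_zero_iff_mem]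
      exact hmH (Ideal.mul_mem_mul ha' hzI)
    have hε : ε ≠ 0 := fun h => hzH (Ideal.Quotient.eq_zero_iff_mem.1 h)
    let B' := B ⧸ Ideal.span {ε}
    haveI : Nontrivial B' := Ideal.Quotient.nontrivial_iff.2 fun h =>
      (IsLocalRing.maximalIdeal.isMaximal B).ne_top (top_le_iff.1 (h.ge.trans (Ideal.span_le.2 (by simpa using hεm))))
    haveI : IsLocalRing B' := IsLocalRing.of_surjective' (Ideal.Quotient.mk _) Ideal.Quotient.mk_surjective
    haveI : IsLocalHom (Ideal.Quotient.mk (Ideal.span {ε})) := IsLocalHom.of_surjective _ Ideal.Quotient.mk_surjective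
    have hxB' : (IsLocalRing.maximalIdeal B').comap (algebraMap A B') = x.asIdeal := by
      refine Eq.trans ?_ hxB
      show (IsLocalRing.maximalIdeal B').comap ((Ideal.Quotient.mk (Ideal.span {ε})).comp (algebraMap A B)) = _
      rw [← Ideal.comap_comap, IsLocalRing.maximalIdeal_comap]
    have hkill : ∀ i ∈ I, Ideal.Quotient.mk (Ideal.span {ε}) (Ideal.Quotient.mk H i) = 0 := by
      intro i hi
      obtain ⟨u, hu, v, hv, rfl⟩ := Submodule.mem_sup.1 (hgen hi)
      obtain ⟨r, rfl⟩ := Ideal.mem_span_singleton'.1 hv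
      rw [map_add, map_add, Ideal.Quotient.eq_zero_iff_mem.2 hu, map_zero, zero_add, map_mul, map_mul,
        Ideal.Quotient.eq_zero_iff_mem.2 (Ideal.mem_span_singleton_self ε), mul_zero]
    have hB' := triv_of_colon hL hQ hT hcyc B' hxB' (hmax B' hxB') fun a ha => hkill _ (hto a ha)
    have hB := hstep B hxB ε hm hε hεm hB'
    obtain ⟨a, ⟨n, hn⟩, u, hu⟩ := hfrom z hzI
    have hann : c ^ (n + 1) * a ∈ Module.annihilator A Q := Module.mem_annihilator.2 fun q => by
      obtain ⟨d, hd⟩ := hcyc q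
      rw [show c ^ (n + 1) * a = c ^ n * a * c by ring, mul_smul, hd, smul_comm, hn, smul_zero]
    haveI : Surjective π := inferInstance
    have h := kill hQ hB hann
    rw [map_mul, map_pow, ((hmax B hxB).pow (n + 1)).mul_right_eq_zero] at h
    refine hε ?_
    show Ideal.Quotient.mk H z = 0
    rw [← hu, map_mul, show Ideal.Quotient.mk H (algebraMap A O a) = algebraMap A B a from rfl, h, zero_mul]
  let G := LinearEquiv.ofBijective F ⟨LinearMap.ker_eq_bot.1 hIbot, hF⟩
  let φ : Q →ₗ[A] O := (G.symm.restrictScalars A).toLinearMap ∘ₗ mQ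
  obtain ⟨ψ, s, hψ⟩ := Module.FinitePresentation.exists_lift_of_isLocalizedModule x.asIdeal.primeCompl
    (Algebra.linearMap A O) φ
  have hψx : ψ q₀ ∉ x.asIdeal := fun h => by
    have h3 : φ q₀ = 1 := G.injective ((G.apply_symm_apply _).trans (one_smul O (mQ q₀)).symm)
    have h4 := LinearMap.congr_fun hψ q₀
    simp only [LinearMap.comp_apply, Algebra.linearMap_apply, LinearMap.smul_apply, h3] at h4
    rw [Submonoid.smul_def, Algebra.smul_def, mul_one] at h4
    exact s.2 ((IsLocalization.AtPrime.to_map_mem_maximal_iff O x.asIdeal _).1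
      (h4 ▸ (IsLocalization.AtPrime.to_map_mem_maximal_iff O x.asIdeal _).2 h))
  obtain ⟨eK, -, he2⟩ := hQ x.asIdeal.ResidueField _ _ _ (IsPullback.of_hasPullback π _)
  have h0 : FibreH0 X x := Rigid.bijective_appTop _
  have hfr : IsFrame (show Γ((Scheme.Modules.pullback (pullback.fst π (specAlg A x.asIdeal.ResidueField))).obj L, ⊤)
      from pullElt (pullback.fst π (specAlg A x.asIdeal.ResidueField)) (e ψ)) :=
    TrivBasic.isFrame_of_ne_zero hT (isField_Γ _ h0) fun h =>
      hψx (Ideal.algebraMap_residueField_eq_zero.1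
        (LinearMap.congr_fun (eK.injective (((he2 ψ).trans h).trans (map_zero eK).symm)) q₀))
  let C : Set ↥(Spec (CommRingCat.of A)) := π '' ((locus (e ψ) : Set X)ᶜ)
  have hC : IsClosed C := (Scheme.Hom.isClosedMap π) _ (locus (e ψ)).isOpen.isClosed_compl
  refine ⟨⟨Cᶜ, hC.isOpen_compl⟩, fun hx => ?_, _, isFrame_res_of_le_locus (s := e ψ) fun y hy => ?_⟩
  · obtain ⟨y, hy, hyx⟩ := hx
    obtain ⟨z, hz⟩ := exists_fibre_point x y hyx
    exact hy (hz ▸ mem_locus_of_pullElt hL _ _ hfr z)
  · by_contra hy'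
    exact hy ⟨y, hy', rfl⟩

end Groth.Agent.SeesawGen
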