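import Groth.Agent.SeesawGen.CubeStep
import Groth.Agent.SeesawGen.StepOpen
import Groth.Agent.SeesawGen.H1Open
import Groth.Agent.Lib.AVDecomp

/-!
# The theorem of the cube over an arbitrary base
-/

set_option autoImplicit false
set_option linter.style.haveILetI false
set_option linter.unusedSectionVars false
set_option backward.isDefEq.respectTransparency false
set_option backward.isDefEq.respectTransparency.types false
set_option maxHeartbeats 1000000

universe u

open CategoryTheory CategoryTheory.Limits AlgebraicGeometry TopologicalSpace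

noncomputable section

namespace Groth.Agent.SeesawGen

open Groth.Agent Groth.Agent.InvX Groth.Agent.H23 Groth.Agent.H23.TrivBasic

variable {X Y S : Scheme.{u}} (pX : X ⟶ S) (pY : Y ⟶ S)

/-- The base change of a product is the product of the base changes. -/
def prodMap {W : Scheme.{u}} (r : W ⟶ S) :
    pullback (pullback.snd pX r) (pullback.snd pY r) ⟶ pullback pX pY :=
  pullback.lift (pullback.fst (pullback.snd pX r) (pullback.snd pY r) ≫ pullback.fst pX r)
    (pullback.snd (pullback.snd pX r) (pullback.snd pY r) ≫ pullback.fst pY r) (by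
      rw [Category.assoc, Category.assoc, pullback.condition (f := pX) (g := r),
        pullback.condition (f := pY) (g := r), pullback.condition_assoc])

theorem isPullback_prodMap {W : Scheme.{u}} (r : W ⟶ S) :
    IsPullback (prodMap pX pY r) (pullback.fst (pullback.snd pX r) (pullback.snd pY r) ≫ pullback.snd pX r)
      (pullback.fst pX pY ≫ pX) r := by
  have big : IsPullback (pullback.snd (pullback.snd pX r) (pullback.snd pY r) ≫ pullback.fst pY r)
      (pullback.fst (pullback.snd pX r) (pullback.snd pY r)) pY (pullback.fst pX r ≫ pX) := by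
    rw [pullback.condition (f := pX) (g := r)]
    exact (IsPullback.of_hasPullback (pullback.snd pX r) (pullback.snd pY r)).flip.paste_horiz (IsPullback.of_hasPullback pY r)
  exact (IsPullback.of_right (h₁₂ := pullback.snd pX pY) (h₂₂ := pX)
    (by unfold prodMap; rw [pullback.lift_snd]; exact big) (by unfold prodMap; exact pullback.lift_fst _ _ _)
    (IsPullback.of_hasPullback pX pY).flip).paste_vert (IsPullback.of_hasPullback pX r)

variable [Flat pX] [IsProper pX] [LocallyOfFinitePresentation pX] [GeometricallyIntegral pX]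
  [Flat pY] [IsProper pY] [LocallyOfFinitePresentation pY] [GeometricallyIntegral pY]

instance geometricallyIntegral_prod_base : GeometricallyIntegral (pullback.fst pX pY ≫ pX) := by
  refine ⟨fun K _ u Z fst snd h => ?_⟩
  haveI : IsLocallyNoetherian (pullback pX u) := LocallyOfFiniteType.isLocallyNoetherian (pullback.snd pX u)
  haveI : IsIntegral (pullback pX u) := GeometricallyIntegral.isIntegral_of_subsingleton (pullback.snd pX u)
  haveI : UniversallyOpen (pullback.snd pY u) := inferInstance
  haveI : IsIntegral (pullback (pullback.snd pX u) (pullback.snd pY u)) := inferInstance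
  let e := h.isoIsPullback _ _ (isPullback_prodMap pX pY u)
  haveI : Nonempty Z := ⟨e.inv (Classical.arbitrary _)⟩
  exact isIntegral_of_isOpenImmersion e.hom

variable (x : S ⟶ X) (hx : x ≫ pX = 𝟙 S) (y : S ⟶ Y) (hy : y ≫ pY = 𝟙 S)
  {L : (pullback pX pY).Modules} (hL : PicF.IsInvertible L)
  (h₁ : Triv ((Scheme.Modules.pullback (pullback.lift (pY ≫ x) (𝟙 Y)
    (by rw [Category.assoc, hx, Category.comp_id, Category.id_comp]) : Y ⟶ pullback pX pY)).obj L))
  (h₂ : Triv ((Scheme.Modules.pullback (pullback.lift (𝟙 X) (pX ≫ y)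
    (by rw [Category.assoc, hy, Category.comp_id, Category.id_comp]) : X ⟶ pullback pX pY)).obj L))

include hL h₁ h₂ in
/-- Triviality lifts along small extensions of the base. -/
theorem stepAt_chart (A : Type u) [CommRing A] (g : Spec (CommRingCat.of A) ⟶ S) (z : PrimeSpectrum A) :
    StepAt (A := A) (X := SeesawGlobal.chart (pullback.fst pX pY ≫ pX) A g)
      (SeesawGlobal.chartMod (pullback.fst pX pY ≫ pX) L A g) z := by
  intro B _ _ _ _ ε hm hε hεm h
  let f := pullback.fst pX pY ≫ pX
  let u : Spec (CommRingCat.of B) ⟶ S := Seesaw.specAlg A B ≫ g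
  let qX := pullback.snd pX u
  let qY := pullback.snd pY u
  let xB : Spec (CommRingCat.of B) ⟶ pullback pX u :=
    pullback.lift (u ≫ x) (𝟙 _) (by rw [Category.assoc, hx, Category.comp_id, Category.id_comp])
  let yB : Spec (CommRingCat.of B) ⟶ pullback pY u :=
    pullback.lift (u ≫ y) (𝟙 _) (by rw [Category.assoc, hy, Category.comp_id, Category.id_comp])
  have hxB : xB ≫ qX = 𝟙 _ := pullback.lift_snd _ _ _
  have hyB : yB ≫ qY = 𝟙 _ := pullback.lift_snd _ _ _
  let j := prodMap pX pY u
  let πB := pullback.fst qX qY ≫ qX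
  have hpb : IsPullback j πB f u := isPullback_prodMap pX pY u
  let c := SeesawGlobal.chart f A g ↘ Spec (CommRingCat.of A)
  let qe : Spec (CommRingCat.of (B ⧸ Ideal.span {ε})) ⟶ Spec (CommRingCat.of B) :=
    Spec.map (CommRingCat.ofHom (Ideal.Quotient.mk (Ideal.span {ε})))
  have hspec : qe ≫ Seesaw.specAlg A B = Seesaw.specAlg A (B ⧸ Ideal.span {ε}) := by
    rw [Seesaw.specAlg, Seesaw.specAlg, ← Spec.map_comp]
    rfl
  have hP : Triv ((Scheme.Modules.pullback j).obj L) := by
    refine triv_cube_eps qX qY xB hxB yB hyB hm hε hεm (PicClLib.isInvertible_pullback _ hL) ?_ ?_ ?_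
    · refine (triv_comp_iff _ _).2 ?_
      have hh := (triv_comp_iff _ _).1 h
      refine SeesawGlobal.triv_of_factor (pullback.lift
        (pullback.lift (pullback.fst πB qe ≫ j) (pullback.fst πB qe ≫ πB ≫ Seesaw.specAlg A B)
          (by rw [Category.assoc, Category.assoc, Category.assoc, hpb.w]))
        (pullback.snd πB qe) (by
          show pullback.lift _ _ _ ≫ pullback.snd f g = _
          rw [pullback.lift_snd, pullback.condition_assoc (f := πB) (g := qe), hspec])) ?_ hh
      rw [pullback.lift_fst_assoc]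
      exact pullback.lift_fst _ _ _
    · refine (triv_comp_iff _ _).2 ?_
      refine SeesawGlobal.triv_of_factor (pullback.fst pY u) ?_ h₁
      refine pullback.hom_ext ?_ ?_
      · simp only [qX, qY, xB, yB, j, prodMap, Category.assoc, pullback.lift_fst, pullback.lift_fst_assoc]
        rw [pullback.condition_assoc]
      · simp only [qX, qY, xB, yB, j, prodMap, Category.assoc, pullback.lift_snd, pullback.lift_snd_assoc, Category.comp_id, Category.id_comp]
    · refine (triv_comp_iff _ _).2 ?_
      refine SeesawGlobal.triv_of_factor (pullback.fst pX u) ?_ h₂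
      refine pullback.hom_ext ?_ ?_
      · simp only [qX, qY, xB, yB, j, prodMap, Category.assoc, pullback.lift_fst, pullback.lift_fst_assoc, Category.comp_id, Category.id_comp]
      · simp only [qX, qY, xB, yB, j, prodMap, Category.assoc, pullback.lift_fst, pullback.lift_snd, pullback.lift_snd_assoc]
        rw [pullback.condition_assoc]
  refine (triv_comp_iff _ _).2 (SeesawGlobal.triv_of_factor
    (hpb.lift (pullback.fst c (Seesaw.specAlg A B) ≫ pullback.fst f g) (pullback.snd c (Seesaw.specAlg A B)) ?_)
    (hpb.lift_fst _ _ _) hP)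
  show (pullback.fst c _ ≫ pullback.fst f g) ≫ f = pullback.snd c _ ≫ Seesaw.specAlg A B ≫ g
  rw [Category.assoc, pullback.condition (f := f) (g := g), ← pullback.condition_assoc (f := c) (g := Seesaw.specAlg A B)]
  rfl

include hL h₁ h₂ hx hy in
/-- The theorem of the cube: the fibrewise trivial locus is clopen and the module is trivial over it. -/
theorem cube_clopen {s₀ : S} (hs : SeesawGlobal.FieldTriv (pullback.fst pX pY ≫ pX) L s₀) :
    ∃ W : S.Opens, IsClosed (W : Set S) ∧ s₀ ∈ W ∧
      Triv ((Scheme.Modules.pullback ((pullback.fst pX pY ≫ pX) ⁻¹ᵁ W).ι).obj L) := by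
  let f := pullback.fst pX pY ≫ pX
  have hnear : ∀ s, SeesawGlobal.FieldTriv f L s →
      ∃ V : S.Opens, s ∈ V ∧ ∃ t : Γ(L, f ⁻¹ᵁ V), IsFrame t := by
    intro s hs'
    obtain ⟨A, _, g, _, z, rfl⟩ := exists_affine_chart s
    exact SeesawGlobal.exists_frame_of_chart f A g (exists_frame_of_step (PicClLib.isInvertible_pullback _ hL) z
      (SeesawGlobal.fibreTriv_chart f A g hs') (stepAt_chart pX pY x hx y hy hL h₁ h₂ A g z))
  have hopen : IsOpen {s | SeesawGlobal.FieldTriv f L s} := isOpen_iff_forall_mem_open.2 fun s hs' => by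
    obtain ⟨V, hV, t, ht⟩ := hnear s hs'
    exact ⟨V, fun v hv => AVDecomp.fieldTriv_of_frame ht hv, V.isOpen, hV⟩
  let W : S.Opens := ⟨_, hopen⟩
  refine ⟨W, isClosed_fieldTriv hL, hs, ?_⟩
  have hxy : pullback.lift x y (hx.trans hy.symm) ≫ f = 𝟙 S := by
    show pullback.lift _ _ _ ≫ pullback.fst pX pY ≫ pX = _
    rw [pullback.lift_fst_assoc, hx]
  let σ : (W : Scheme.{u}) ⟶ (f ⁻¹ᵁ W : Scheme.{u}) :=
    IsOpenImmersion.lift (f ⁻¹ᵁ W).ι (W.ι ≫ pullback.lift x y (hx.trans hy.symm)) (by
      rw [Scheme.Opens.range_ι]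
      rintro _ ⟨w, rfl⟩
      show f ((W.ι ≫ pullback.lift x y _) w) ∈ W
      rw [← Scheme.Hom.comp_apply, Category.assoc, hxy, Category.comp_id]
      exact w.2)
  refine SeesawGlobal.triv_of_section (f := f ∣_ W)
    (PullPush.app_morphismRestrict_bijective f (bijective_app_gi f) W) σ ?_ ?_ fun w => ?_
  · rw [← cancel_mono W.ι, Category.assoc, morphismRestrict_ι, IsOpenImmersion.lift_fac_assoc, Category.assoc, hxy,
      Category.comp_id, Category.id_comp]
  · refine (triv_comp_iff _ _).2 (SeesawGlobal.triv_of_factor (W.ι ≫ y) ?_ h₁)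
    rw [IsOpenImmersion.lift_fac, Category.assoc]
    congr 1
    refine pullback.hom_ext ?_ ?_
    · rw [Category.assoc, pullback.lift_fst, pullback.lift_fst, ← Category.assoc, hy, Category.id_comp]
    · rw [Category.assoc, pullback.lift_snd, pullback.lift_snd, Category.comp_id]
  · obtain ⟨V, hV, t, ht⟩ := hnear (W.ι w) w.2
    refine ⟨W.ι ⁻¹ᵁ V, hV, AModX.res _ ?_ (pullElt (f ⁻¹ᵁ W).ι t), (isFrame_pullElt _ ht).res _⟩
    rw [← Scheme.Hom.comp_preimage, morphismRestrict_ι]
    exact le_rfl

end Groth.Agent.SeesawGen
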