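import Groth.Agent.SeesawGen.H1Open
import Groth.Agent.QCoh.FlatCoh
import Groth.Agent.PicClLib.Basic
import Groth.Agent.ThetaLib.Lifts

/-!
# The Picard group of a product with a factor without first cohomology
-/

set_option autoImplicit false
set_option linter.style.haveILetI false
set_option backward.isDefEq.respectTransparency false
set_option backward.isDefEq.respectTransparency.types false
set_option maxHeartbeats 1000000

universe u

open CategoryTheory CategoryTheory.Limits AlgebraicGeometry TopologicalSpace Opposite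

noncomputable section

namespace Groth.Agent.SeesawGen

open Groth.Agent Groth.Agent.InvX Groth.Agent.H23 Groth.Agent.H23.TrivBasic
open scoped Groth.Agent.H23.PicMul

variable {k : Type u} [Field k]

theorem cl_eq_one_of_field {K : Type u} [Field K] {c : PicF.Cl (Spec (CommRingCat.of K))} (hc : PicF.IsInvertibleCl c) :
    c = 1 := by
  haveI : Subsingleton ↥(Spec (CommRingCat.of K)) := inferInstanceAs (Subsingleton (PrimeSpectrum K))
  obtain ⟨p⟩ : Nonempty ↥(Spec (CommRingCat.of K)) := inferInstanceAs (Nonempty (PrimeSpectrum K))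
  obtain ⟨U, hU, h⟩ := ThetaLib.exists_open_trivial hc p
  have hr : Set.range (𝟙 (Spec (CommRingCat.of K)) : _ ⟶ _) ⊆ Set.range U.ι := fun y _ => by
    rw [Scheme.Opens.range_ι]
    exact Subsingleton.elim p y ▸ hU
  have h' := congrArg (PicF.pullCl (IsOpenImmersion.lift U.ι (𝟙 _) hr)) h
  rwa [PicMul.pullCl_one, PicClLib.pullCl_comp, IsOpenImmersion.lift_fac, PicClLib.pullCl_id] at h'

theorem h1Zero_product {S T : Scheme.{u}} (s : S ⟶ Spec (CommRingCat.of k)) (t : T ⟶ Spec (CommRingCat.of k))
    [IsProper t] (h1 : Subsingleton (Coh.HH T (Coh.structureModule T) 1)) : H1Zero (pullback.fst s t) := by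
  intro K _ x
  obtain ⟨ψ, hψ⟩ := Spec.map_surjective (x ≫ s)
  letI : Algebra k K := ψ.hom.toAlgebra
  let X' := pullback (pullback.fst s t) x
  letI : T.Over (Spec (CommRingCat.of k)) := ⟨t⟩
  letI : X'.Over (Spec (CommRingCat.of K)) := ⟨pullback.snd _ _⟩
  haveI : CompactSpace T := QuasiCompact.compactSpace_of_compactSpace t
  haveI : T.IsSeparated := ⟨by rw [← Limits.terminal.comp_from t]; infer_instance⟩
  have hpb : IsPullback (pullback.fst (pullback.fst s t) x ≫ pullback.snd s t) (pullback.snd (pullback.fst s t) x) t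
      (Spec.map (CommRingCat.ofHom (algebraMap k K))) := by
    rw [show Spec.map (CommRingCat.ofHom (algebraMap k K)) = x ≫ s from hψ]
    exact (IsPullback.of_hasPullback (pullback.fst s t) x).paste_horiz (IsPullback.of_hasPullback s t).flip
  haveI : Flat (T ↘ Spec (CommRingCat.of k)) := inferInstanceAs (Flat t)
  obtain ⟨e⟩ := QCoh.nonempty_HH_bc_of_flat (A := k) (X := T) (F := Coh.structureModule T)
    (ProjUPX.isQCoh_of_isInvertible InvX.isInvertible_structureModule)
    (Seesaw.isFlatOver_of_isInvertible _ InvX.isInvertible_structureModule) (fun p => inferInstance)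
    (B := K) (X' := X') (pullback.fst (pullback.fst s t) x ≫ pullback.snd s t) hpb 1
  obtain ⟨i⟩ := PicClLib.nonempty_pullback_structureModule (pullback.fst (pullback.fst s t) x ≫ pullback.snd s t)
  refine AmpleVan.subsingleton_of_iso i 1 ?_
  haveI := h1
  exact e.toEquiv.subsingleton

theorem bijective_app_fst {S T : Scheme.{u}} (s : S ⟶ Spec (CommRingCat.of k)) (t : T ⟶ Spec (CommRingCat.of k))
    [IsProper t] [GeometricallyIntegral t] (V : S.Opens) : Function.Bijective ((pullback.fst s t).app V) := by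
  rw [← pullbackSymmetry_hom_comp_snd s t, Scheme.Hom.comp_app]
  haveI : IsIso ((pullbackSymmetry s t).hom.app (pullback.snd t s ⁻¹ᵁ V)) := inferInstance
  exact (ConcreteCategory.bijective_of_isIso ((pullbackSymmetry s t).hom.app (pullback.snd t s ⁻¹ᵁ V))).comp
    (Rigid.bijective_app_snd t s V)

theorem pullCl_fst_injective {S T : Scheme.{u}} (s : S ⟶ Spec (CommRingCat.of k)) (t : T ⟶ Spec (CommRingCat.of k))
    [IsProper t] [GeometricallyIntegral t] {L L' : S.Modules} (hL : PicF.IsInvertible L) (hL' : PicF.IsInvertible L')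
    (h : Nonempty ((Scheme.Modules.pullback (pullback.fst s t)).obj L ≅ (Scheme.Modules.pullback (pullback.fst s t)).obj L')) :
    Nonempty (L ≅ L') := by
  obtain ⟨e⟩ := h
  have h₁ := PullPush.isIso_unit_of_isFinLocFree _ (bijective_app_fst s t) L (PullPush.isFinLocFree_of_isInvertible hL)
  have h₂ := PullPush.isIso_unit_of_isFinLocFree _ (bijective_app_fst s t) L' (PullPush.isFinLocFree_of_isInvertible hL')
  let p := pullback.fst s t
  let i₁ : L ≅ (Scheme.Modules.pushforward p).obj ((Scheme.Modules.pullback p).obj L) :=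
    @asIso _ _ _ _ ((Scheme.Modules.pullbackPushforwardAdjunction p).unit.app L) h₁
  let i₂ : L' ≅ (Scheme.Modules.pushforward p).obj ((Scheme.Modules.pullback p).obj L') :=
    @asIso _ _ _ _ ((Scheme.Modules.pullbackPushforwardAdjunction p).unit.app L') h₂
  exact ⟨i₁ ≪≫ (Scheme.Modules.pushforward p).mapIso e ≪≫ i₂.symm⟩

/-- The product theorem. -/
theorem product_pic {S T : Scheme.{u}} (s : S ⟶ Spec (CommRingCat.of k)) (t : T ⟶ Spec (CommRingCat.of k))
    [IsProper t] [GeometricallyIntegral t] (h1 : Subsingleton (Coh.HH T (Coh.structureModule T) 1))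
    [ConnectedSpace S] (σ : Spec (CommRingCat.of k) ⟶ S) (hσ : σ ≫ s = 𝟙 _) :
    (∀ N : (pullback s t).Modules, PicF.IsInvertible N →
      ∃ (L : S.Modules) (M : T.Modules), PicF.IsInvertible L ∧ PicF.IsInvertible M ∧
        Nonempty (N ≅ CohB1.tensorMod ((Scheme.Modules.pullback (pullback.fst s t)).obj L) ((Scheme.Modules.pullback (pullback.snd s t)).obj M))) ∧
    (∀ (L L' : S.Modules) (M M' : T.Modules), PicF.IsInvertible L → PicF.IsInvertible L' → PicF.IsInvertible M → PicF.IsInvertible M' →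
      Nonempty (CohB1.tensorMod ((Scheme.Modules.pullback (pullback.fst s t)).obj L) ((Scheme.Modules.pullback (pullback.snd s t)).obj M) ≅
        CohB1.tensorMod ((Scheme.Modules.pullback (pullback.fst s t)).obj L') ((Scheme.Modules.pullback (pullback.snd s t)).obj M')) →
      Nonempty (L ≅ L') ∧ Nonempty (M ≅ M')) := by
  let p₁ := pullback.fst s t
  let p₂ := pullback.snd s t
  let σT : T ⟶ pullback s t := pullback.lift (t ≫ σ) (𝟙 T) (by rw [Category.assoc, hσ]; simp)
  have h₁σ : σT ≫ p₁ = t ≫ σ := pullback.lift_fst _ _ _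
  have h₂σ : σT ≫ p₂ = 𝟙 T := pullback.lift_snd _ _ _
  have hrestr : ∀ (L : S.Modules) (M : T.Modules), PicF.IsInvertible L →
      PicF.pullCl σT (PicF.pullCl p₁ (PicF.cl L) * PicF.pullCl p₂ (PicF.cl M)) = PicF.cl M := by
    intro L M hL
    rw [PicMul.pullCl_mul, PicClLib.pullCl_comp, PicClLib.pullCl_comp, h₁σ, h₂σ, ← PicClLib.pullCl_comp,
      cl_eq_one_of_field (PicClLib.isInvertibleCl_pullCl σ ⟨L, rfl, hL⟩), PicMul.pullCl_one, one_mul, PicClLib.pullCl_id]
  refine ⟨fun N hN => ?_, fun L L' M M' hL hL' hM hM' e => ?_⟩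
  · let M := (Scheme.Modules.pullback σT).obj N
    have hM : PicF.IsInvertible M := PicClLib.isInvertible_pullback _ hN
    obtain ⟨D, hD, e⟩ := PicInv.exists_inverse hM
    have hMD : PicF.cl M * PicF.cl D = 1 := (PicGrp.cl_eq_cl_iff _ _).2 e
    let N' := CohB1.tensorMod N ((Scheme.Modules.pullback p₂).obj D)
    have hN' : PicF.IsInvertible N' := InvX.isInvertible_tensorMod hN (PicClLib.isInvertible_pullback _ hD)
    have hcl : PicF.cl N' = PicF.cl N * PicF.pullCl p₂ (PicF.cl D) := rfl
    haveI : IsLocallyNoetherian (Spec (CommRingCat.of k)) := inferInstance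
    haveI : LocallyOfFinitePresentation t := inferInstance
    have hres : SeesawGlobal.FieldTriv p₁ N' (σ (IsLocalRing.closedPoint k)) := by
      refine (SeesawGlobal.fieldTriv_iff_residueField _).2 ?_
      let τ : S.residueField (σ (IsLocalRing.closedPoint k)) ⟶ CommRingCat.of k :=
        Scheme.descResidueField (Scheme.stalkClosedPointTo σ)
      have hτ : Spec.map τ ≫ S.fromSpecResidueField _ = σ :=
        Scheme.descResidueField_stalkClosedPointTo_fromSpecResidueField k S σ
      obtain ⟨ι, hι⟩ := Spec.map_surjective (S.fromSpecResidueField (σ (IsLocalRing.closedPoint k)) ≫ s)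
      have hιτ : ι ≫ τ = 𝟙 _ := Spec.map_injective (by rw [Spec.map_comp, Spec.map_id, hι, ← Category.assoc, hτ, hσ])
      haveI : IsIso τ := (ConcreteCategory.isIso_iff_bijective τ).2
        ⟨RingHom.injective τ.hom, fun c => ⟨ι c, congr($hιτ c)⟩⟩
      have hfac : inv (Spec.map τ) ≫ σ = S.fromSpecResidueField _ := by rw [IsIso.inv_comp_eq, hτ]
      refine SeesawGlobal.triv_pullback_of_factor _ hfac ?_
      have hzero : PicF.pullCl σT (PicF.cl N') = 1 := by
        rw [hcl, PicMul.pullCl_mul, PicClLib.pullCl_comp, h₂σ, PicClLib.pullCl_id]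
        exact hMD
      refine SeesawGlobal.triv_of_factor (pullback.fst p₁ σ ≫ p₂) ?_ ((PicGrp.cl_eq_cl_iff _ _).1 hzero)
      refine pullback.hom_ext ?_ ?_
      · show ((pullback.fst p₁ σ ≫ p₂) ≫ σT) ≫ p₁ = _
        rw [Category.assoc, h₁σ, Category.assoc, ← pullback.condition_assoc (f := s) (g := t),
          pullback.condition_assoc (f := p₁) (g := σ), reassoc_of% hσ, pullback.condition]
      · show ((pullback.fst p₁ σ ≫ p₂) ≫ σT) ≫ p₂ = _
        rw [Category.assoc, h₂σ, Category.comp_id]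
    obtain ⟨L, hL, ⟨i⟩⟩ := exists_pullback_of_h1 hN' (h1Zero_product s t h1) (bijective_app_fst s t) hres
    refine ⟨L, M, hL, hM, (PicGrp.cl_eq_cl_iff _ _).1 ?_⟩
    show PicF.cl N = PicF.pullCl p₁ (PicF.cl L) * PicF.pullCl p₂ (PicF.cl M)
    rw [show PicF.pullCl p₁ (PicF.cl L) = PicF.cl N' from ((PicGrp.cl_eq_cl_iff _ _).2 ⟨i⟩).symm, hcl,
      _root_.mul_assoc, ← PicMul.pullCl_mul, mul_comm (PicF.cl D), hMD, PicMul.pullCl_one, _root_.mul_one]
  · have he : PicF.pullCl p₁ (PicF.cl L) * PicF.pullCl p₂ (PicF.cl M) =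
        PicF.pullCl p₁ (PicF.cl L') * PicF.pullCl p₂ (PicF.cl M') := (PicGrp.cl_eq_cl_iff _ _).2 e
    have hMM : PicF.cl M = PicF.cl M' := by
      have h := congrArg (PicF.pullCl σT) he
      rwa [hrestr L M hL, hrestr L' M' hL'] at h
    refine ⟨?_, (PicGrp.cl_eq_cl_iff _ _).1 hMM⟩
    rw [hMM] at he
    exact pullCl_fst_injective s t hL hL' ((PicGrp.cl_eq_cl_iff _ _).1
      ((PicMul.isUnit_of_isInvertibleCl (PicClLib.isInvertibleCl_pullCl p₂ ⟨M', rfl, hM'⟩)).mul_right_cancel he))

end Groth.Agent.SeesawGen
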