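import Groth.Agent.SeesawGen.Eps
import Groth.Agent.SeesawGen.H0

/-!
# The small extension step for a product with two slices
-/

set_option autoImplicit false
set_option linter.style.haveILetI false
set_option linter.unusedSectionVars false
set_option backward.isDefEq.respectTransparency false
set_option backward.isDefEq.respectTransparency.types false
set_option maxHeartbeats 1000000

universe u

open CategoryTheory CategoryTheory.Limits AlgebraicGeometry MonoidalCategory CartesianMonoidalCategory TopologicalSpace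

noncomputable section

namespace Groth.Agent.SeesawGen

open Groth.Agent Groth.Agent.H23 Groth.Agent.H23.TrivBasic Groth.Agent.H23.KunnethH1

theorem isClosedImmersion_of_section {P X : Scheme.{u}} (σ : X ⟶ P) (g : P ⟶ X) [IsSeparated g] (h : σ ≫ g = 𝟙 X) :
    IsClosedImmersion σ := by
  haveI : IsClosedImmersion (σ ≫ g) := by rw [h]; infer_instance
  exact IsClosedImmersion.of_comp σ g

variable {B : Type u} [CommRing B] [IsLocalRing B] {X Y : Scheme.{u}}
  (pX : X ⟶ Spec (CommRingCat.of B)) (pY : Y ⟶ Spec (CommRingCat.of B))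
  [Flat pX] [IsProper pX] [LocallyOfFinitePresentation pX] [GeometricallyIntegral pX]
  [Flat pY] [IsProper pY] [LocallyOfFinitePresentation pY] [GeometricallyIntegral pY]
  (x : Spec (CommRingCat.of B) ⟶ X) (hx : x ≫ pX = 𝟙 _) (y : Spec (CommRingCat.of B) ⟶ Y) (hy : y ≫ pY = 𝟙 _)

/-- A module on a product trivial on both slices and modulo a small element is trivial. -/
theorem triv_cube_eps {ε : B} (hm : ∀ a ∈ IsLocalRing.maximalIdeal B, a * ε = 0) (hε : ε ≠ 0)
    (hεm : ε ∈ IsLocalRing.maximalIdeal B) {L : (pullback pX pY).Modules} (hL : PicF.IsInvertible L)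
    (h' : Triv ((Scheme.Modules.pullback (pullback.fst (pullback.fst pX pY ≫ pX)
      (Spec.map (CommRingCat.ofHom (Ideal.Quotient.mk (Ideal.span {ε})))))).obj L))
    (h₁ : Triv ((Scheme.Modules.pullback (pullback.lift (pY ≫ x) (𝟙 Y)
      (by rw [Category.assoc, hx, Category.comp_id, Category.id_comp]) : Y ⟶ pullback pX pY)).obj L))
    (h₂ : Triv ((Scheme.Modules.pullback (pullback.lift (𝟙 X) (pX ≫ y)
      (by rw [Category.assoc, hy, Category.comp_id, Category.id_comp]) : X ⟶ pullback pX pY)).obj L)) : Triv L := by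
  let k := IsLocalRing.ResidueField B
  let r : Spec (CommRingCat.of k) ⟶ Spec (CommRingCat.of B) := Spec.map (CommRingCat.ofHom (IsLocalRing.residue B))
  let q : Spec (CommRingCat.of (B ⧸ Ideal.span {ε})) ⟶ Spec (CommRingCat.of B) :=
    Spec.map (CommRingCat.ofHom (Ideal.Quotient.mk (Ideal.span {ε})))
  let π := pullback.fst pX pY ≫ pX
  let Xk : Over (Spec (CommRingCat.of k)) := Over.mk (pullback.snd pX r)
  let Yk : Over (Spec (CommRingCat.of k)) := Over.mk (pullback.snd pY r)
  haveI : IsProper Xk.hom := inferInstanceAs (IsProper (pullback.snd pX r))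
  haveI : IsProper Yk.hom := inferInstanceAs (IsProper (pullback.snd pY r))
  haveI : GeometricallyIntegral Xk.hom := inferInstanceAs (GeometricallyIntegral (pullback.snd pX r))
  haveI : GeometricallyIntegral Yk.hom := inferInstanceAs (GeometricallyIntegral (pullback.snd pY r))
  let j : (Xk ⊗ Yk).left ⟶ pullback pX pY := pullback.lift
    (pullback.fst (pullback.snd pX r) (pullback.snd pY r) ≫ pullback.fst pX r)
    (pullback.snd (pullback.snd pX r) (pullback.snd pY r) ≫ pullback.fst pY r) (by
      rw [Category.assoc, Category.assoc, pullback.condition (f := pX) (g := r),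
        pullback.condition (f := pY) (g := r), pullback.condition_assoc])
  have hκ : IsPullback j (pullback.fst (pullback.snd pX r) (pullback.snd pY r) ≫ pullback.snd pX r) π r := by
    have big : IsPullback (pullback.snd (pullback.snd pX r) (pullback.snd pY r) ≫ pullback.fst pY r)
        (pullback.fst (pullback.snd pX r) (pullback.snd pY r)) pY (pullback.fst pX r ≫ pX) := by
      rw [pullback.condition (f := pX) (g := r)]
      exact (IsPullback.of_hasPullback (pullback.snd pX r) (pullback.snd pY r)).flip.paste_horiz (IsPullback.of_hasPullback pY r)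
    exact (IsPullback.of_right (h₁₂ := pullback.snd pX pY) (h₂₂ := pX)
      (by rw [pullback.lift_snd]; exact big) (pullback.lift_fst _ _ _)
      (IsPullback.of_hasPullback pX pY).flip).paste_vert (IsPullback.of_hasPullback pX r)
  haveI : CompactSpace X := QuasiCompact.compactSpace_of_compactSpace pX
  haveI : CompactSpace Y := QuasiCompact.compactSpace_of_compactSpace pY
  haveI : X.IsSeparated := ⟨by rw [← Limits.terminal.comp_from pX]; infer_instance⟩
  haveI : Y.IsSeparated := ⟨by rw [← Limits.terminal.comp_from pY]; infer_instance⟩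
  obtain ⟨ι, _, U, hU, hUσ⟩ := QCoh.exists_affine_cover (X := X)
  obtain ⟨κ, _, O, hO, hOσ⟩ := QCoh.exists_affine_cover (X := Y)
  have hU1 : ∀ i, IsAffineOpen (U i) := fun i => by simpa using hUσ (p := 0) fun _ => i
  have hO1 : ∀ j, IsAffineOpen (O j) := fun j => by simpa using hOσ (p := 0) fun _ => j
  have hcU : ∀ z : X, ∃ i, z ∈ U i := fun z => Opens.mem_iSup.1 (hU.symm ▸ trivial)
  have hcO : ∀ z : Y, ∃ i, z ∈ O i := fun z => Opens.mem_iSup.1 (hO.symm ▸ trivial)
  let UP : ι × κ → (pullback pX pY).Opens := fun a => pullback.fst pX pY ⁻¹ᵁ U a.1 ⊓ pullback.snd pX pY ⁻¹ᵁ O a.2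
  let x₀ : 𝟙_ (Over (Spec (CommRingCat.of k))) ⟶ Xk :=
    Over.homMk (pullback.lift (r ≫ x) (𝟙 _) (by rw [Category.assoc, hx, Category.comp_id, Category.id_comp]))
      (pullback.lift_snd _ _ _)
  let y₀ : 𝟙_ (Over (Spec (CommRingCat.of k))) ⟶ Yk :=
    Over.homMk (pullback.lift (r ≫ y) (𝟙 _) (by rw [Category.assoc, hy, Category.comp_id, Category.id_comp]))
      (pullback.lift_snd _ _ _)
  let Sl : Bool → Scheme.{u} := fun b => match b with | true => Y | false => X
  let pS : ∀ b, Sl b ⟶ Spec (CommRingCat.of B) := fun b => match b with | true => pY | false => pX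
  let τ : ∀ b, Sl b ⟶ pullback pX pY := fun b => match b with
    | true => pullback.lift (pY ≫ x) (𝟙 Y) (by rw [Category.assoc, hx, Category.comp_id, Category.id_comp])
    | false => pullback.lift (𝟙 X) (pX ≫ y) (by rw [Category.assoc, hy, Category.comp_id, Category.id_comp])
  have hτπ : ∀ b, τ b ≫ π = pS b := by
    rintro (_ | _)
    · show pullback.lift _ _ _ ≫ pullback.fst pX pY ≫ pX = pX
      rw [pullback.lift_fst_assoc, Category.id_comp]
    · show pullback.lift _ _ _ ≫ pullback.fst pX pY ≫ pX = pY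
      rw [pullback.lift_fst_assoc, Category.assoc, hx, Category.comp_id]
  haveI : ∀ b, IsClosedImmersion (τ b) := by
    rintro (_ | _)
    · exact isClosedImmersion_of_section _ (pullback.fst pX pY) (pullback.lift_fst _ _ _)
    · exact isClosedImmersion_of_section _ (pullback.snd pX pY) (pullback.lift_snd _ _ _)
  haveI : ∀ b, Flat (τ b ≫ π) := fun b => by
    rw [hτπ b]; cases b
    · exact inferInstanceAs (Flat pX)
    · exact inferInstanceAs (Flat pY)
  haveI : IsClosedImmersion r := IsClosedImmersion.spec_of_surjective _ IsLocalRing.residue_surjective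
  haveI : IsAffineHom (pullback.fst pX r) := inferInstance
  haveI : IsAffineHom (pullback.fst pY r) := inferInstance
  haveI : Flat π := inferInstanceAs (Flat (pullback.fst pX pY ≫ pX))
  haveI : IsSeparated π := inferInstanceAs (IsSeparated (pullback.fst pX pY ≫ pX))
  have hjU : (fun a => j ⁻¹ᵁ UP a) = boxes (fun i => (pullback.fst pX r ⁻¹ᵁ U i : Xk.left.Opens))
      (fun i => (pullback.fst pY r ⁻¹ᵁ O i : Yk.left.Opens)) := by
    funext a
    refine (Scheme.Hom.preimage_inf j).trans ?_
    rw [← Scheme.Hom.comp_preimage, ← Scheme.Hom.comp_preimage, pullback.lift_fst, pullback.lift_snd]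
    rfl
  have hl₁ : ∀ {T : Over (Spec (CommRingCat.of k))} (a : T ⟶ Xk) (b : T ⟶ Yk),
      (lift a b).left ≫ pullback.fst (pullback.snd pX r) (pullback.snd pY r) = a.left := fun {T} a b =>
    congrArg CommaMorphism.left (lift_fst a b)
  have hl₂ : ∀ {T : Over (Spec (CommRingCat.of k))} (a : T ⟶ Xk) (b : T ⟶ Yk),
      (lift a b).left ≫ pullback.snd (pullback.snd pX r) (pullback.snd pY r) = b.left := fun {T} a b =>
    congrArg CommaMorphism.left (lift_snd a b)
  let σk : ∀ b : Bool, (match b with | true => Yk | false => Xk) ⟶ Xk ⊗ Yk := fun b => match b with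
    | true => lift (toUnit Yk ≫ x₀) (𝟙 Yk)
    | false => lift (𝟙 Xk) (toUnit Xk ≫ y₀)
  refine Eps.triv_eps π hm hε hεm (IsPullback.of_hasPullback π q) hκ UP
    (fun a => Groth.Agent.S17858.isAffineOpen_inf_pullback pX pY (hU1 a.1) (hO1 a.2)
      (isAffineOpen_top (Spec (CommRingCat.of B))) le_top le_top)
    (fun z => ?_) (Sl := Sl) (Sl' := fun b => pullback (pS b) q) (Slκ := fun b => pullback (pS b) r) τ
    (fun b => pullback.fst (pS b) q) (fun b => pullback.snd (pS b) q)
    (fun b => by rw [hτπ b]; exact IsPullback.of_hasPullback _ _) ?_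
    (fun b => pullback.fst (pS b) r) (fun b => pullback.snd (pS b) r)
    (fun b => by rw [hτπ b]; exact IsPullback.of_hasPullback _ _)
    (fun b => match b with | true => (σk true).left | false => (σk false).left) ?_ ?_ hL h' ?_
  · obtain ⟨i, hi⟩ := hcU (pullback.fst pX pY z)
    obtain ⟨l, hl⟩ := hcO (pullback.snd pX pY z)
    exact ⟨(i, l), hi, hl⟩
  · rintro (_ | _)
    · exact (bijective_app_gi (pullback.snd pX q) ⊤).2
    · exact (bijective_app_gi (pullback.snd pY q) ⊤).2
  · rintro (_ | _)
    · refine pullback.hom_ext ?_ ?_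
      · show ((lift (𝟙 Xk) (toUnit Xk ≫ y₀)).left ≫ j) ≫ pullback.fst pX pY =
          (pullback.fst pX r ≫ pullback.lift (𝟙 X) (pX ≫ y) _) ≫ pullback.fst pX pY
        rw [Category.assoc, pullback.lift_fst, Category.assoc, pullback.lift_fst, Category.comp_id, ← Category.assoc]
        exact (congrArg (· ≫ pullback.fst pX r) (hl₁ _ _)).trans (Category.id_comp _)
      · show ((lift (𝟙 Xk) (toUnit Xk ≫ y₀)).left ≫ j) ≫ pullback.snd pX pY =
          (pullback.fst pX r ≫ pullback.lift (𝟙 X) (pX ≫ y) _) ≫ pullback.snd pX pY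
        rw [Category.assoc, pullback.lift_snd, Category.assoc, pullback.lift_snd, pullback.condition_assoc, ← Category.assoc]
        refine (congrArg (· ≫ pullback.fst pY r) (hl₂ _ _)).trans ?_
        show (pullback.snd pX r ≫ pullback.lift (r ≫ y) (𝟙 _) _) ≫ pullback.fst pY r = _
        rw [Category.assoc, pullback.lift_fst]
    · refine pullback.hom_ext ?_ ?_
      · show ((lift (toUnit Yk ≫ x₀) (𝟙 Yk)).left ≫ j) ≫ pullback.fst pX pY =
          (pullback.fst pY r ≫ pullback.lift (pY ≫ x) (𝟙 Y) _) ≫ pullback.fst pX pY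
        rw [Category.assoc, pullback.lift_fst, Category.assoc, pullback.lift_fst, pullback.condition_assoc, ← Category.assoc]
        refine (congrArg (· ≫ pullback.fst pX r) (hl₁ _ _)).trans ?_
        show (pullback.snd pY r ≫ pullback.lift (r ≫ x) (𝟙 _) _) ≫ pullback.fst pX r = _
        rw [Category.assoc, pullback.lift_fst]
      · show ((lift (toUnit Yk ≫ x₀) (𝟙 Yk)).left ≫ j) ≫ pullback.snd pX pY =
          (pullback.fst pY r ≫ pullback.lift (pY ≫ x) (𝟙 Y) _) ≫ pullback.snd pX pY
        rw [Category.assoc, pullback.lift_snd, Category.assoc, pullback.lift_snd, Category.comp_id, ← Category.assoc]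
        exact (congrArg (· ≫ pullback.fst pY r) (hl₂ _ _)).trans (Category.id_comp _)
  · suffices key : ∀ W : ι × κ → (Xk ⊗ Yk).left.Opens,
        W = boxes (fun i => (pullback.fst pX r ⁻¹ᵁ U i : Xk.left.Opens)) (fun i => (pullback.fst pY r ⁻¹ᵁ O i : Yk.left.Opens)) →
        ∀ c : ∀ a b, Γ((Xk ⊗ Yk).left, W a ⊓ W b), IsCocycle W c →
          IsCobound (fun a => (lift (toUnit Yk ≫ x₀) (𝟙 Yk)).left ⁻¹ᵁ W a)
            (pullC W (lift (toUnit Yk ≫ x₀) (𝟙 Yk)).left c) →
          IsCobound (fun a => (lift (𝟙 Xk) (toUnit Xk ≫ y₀)).left ⁻¹ᵁ W a)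
            (pullC W (lift (𝟙 Xk) (toUnit Xk ≫ y₀)).left c) → IsCobound W c from
      fun c hc hs => key _ hjU c hc (hs true) (hs false)
    rintro _ rfl c hc hs₁ hs₂
    exact isCobound_of_slices _ _ (fun z => hcU (pullback.fst pX r z)) (fun z => hcO (pullback.fst pY r z))
      (fun i => (hU1 i).preimage _) (fun i => (hO1 i).preimage _) (Rigid.bijective_appTop Xk.hom)
      (Rigid.bijective_appTop Yk.hom) x₀ y₀ c hc hs₁ hs₂
  · rintro (_ | _)
    · exact h₂
    · exact h₁

end Groth.Agent.SeesawGen
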