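import Groth.Agent.H23.InfLift
import Groth.Agent.ArtFunLib.HilbAffine
import Mathlib.RingTheory.LocalRing.ResidueField.Basic

/-!
# Triviality along a small extension of the base

A module on a flat proper family over a local ring which is trivial modulo an element killed by the maximal ideal and
trivial on some slices is trivial, when a cocycle of functions on the closed fibre which is a coboundary on the slices is a
coboundary.
-/

set_option autoImplicit false
set_option linter.style.haveILetI false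
set_option linter.unusedSectionVars false
set_option backward.isDefEq.respectTransparency false
set_option backward.isDefEq.respectTransparency.types false
set_option maxHeartbeats 1000000

universe u

open CategoryTheory CategoryTheory.Limits AlgebraicGeometry TopologicalSpace Opposite TensorProduct

noncomputable section

namespace Groth.Agent.SeesawGen.Eps

open Groth.Agent Groth.Agent.InvX Groth.Agent.H23 Groth.Agent.H23.TrivBasic Groth.Agent.H23.KunnethH1

section Ap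

variable {X Y Z : Scheme.{u}}

/-- Inverse image of functions. -/
def ap (f : Y ⟶ X) {U : X.Opens} {V : Y.Opens} (h : V ≤ f ⁻¹ᵁ U) : Γ(X, U) →+* Γ(Y, V) := (f.appLE U V h).hom

theorem ap_ap (f : Y ⟶ X) (g : Z ⟶ Y) {U : X.Opens} {V : Y.Opens} {W : Z.Opens} (h : V ≤ f ⁻¹ᵁ U) (h' : W ≤ g ⁻¹ᵁ V)
    (x : Γ(X, U)) : ap g h' (ap f h x) = ap (g ≫ f) (h'.trans (g.preimage_mono h)) x :=
  congr(($(Scheme.Hom.appLE_comp_appLE g f U V W h h')) x)

theorem ap_congr {f f' : Y ⟶ X} (e : f = f') {U : X.Opens} {V : Y.Opens} (h : V ≤ f ⁻¹ᵁ U) (h' : V ≤ f' ⁻¹ᵁ U)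
    (x : Γ(X, U)) : ap f h x = ap f' h' x := by
  subst e; rfl

theorem resR_ap (f : Y ⟶ X) {U : X.Opens} {V V' : Y.Opens} (h : V ≤ f ⁻¹ᵁ U) (e : V' ≤ V) (x : Γ(X, U)) :
    AModX.resR e (ap f h x) = ap f (e.trans h) x :=
  congr(($(f.appLE_map h (homOfLE e).op)) x)

theorem ap_resR (f : Y ⟶ X) {U U' : X.Opens} {V : Y.Opens} (e : U' ≤ U) (h : V ≤ f ⁻¹ᵁ U') (x : Γ(X, U)) :
    ap f h (AModX.resR e x) = ap f (h.trans (f.preimage_mono e)) x :=
  congr(($(f.map_appLE h (homOfLE e).op)) x)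

theorem ap_eq_app (f : Y ⟶ X) {U : X.Opens} (x : Γ(X, U)) : ap f le_rfl x = f.app U x := by
  rw [ap, Scheme.Hom.appLE_eq_app]

theorem ap_pullElt {M : X.Modules} (f : Y ⟶ X) {U : X.Opens} (g : Γ(X, U)) (a : Γ(M, U)) :
    pullElt f (g • a) = ap f le_rfl g • pullElt f a := by
  rw [ap_eq_app]; exact pullElt_smul f g a

end Ap

variable {B : Type u} [CommRing B] {P : Scheme.{u}} (π : P ⟶ Spec (CommRingCat.of B))

/-- The constants among the functions on an open. -/
def rho (U : P.Opens) : B →+* Γ(P, U) :=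
  (π.appLE ⊤ U (fun _ _ => trivial)).hom.comp (Scheme.ΓSpecIso (CommRingCat.of B)).inv.hom

theorem resR_rho {U V : P.Opens} (h : V ≤ U) (b : B) : AModX.resR h (rho π U b) = rho π V b :=
  congr(($(π.appLE_map (show U ≤ π ⁻¹ᵁ ⊤ from fun _ _ => trivial) (homOfLE h).op)) ((Scheme.ΓSpecIso (CommRingCat.of B)).inv b))

theorem ap_rho {Q : Scheme.{u}} (f : Q ⟶ P) {U : P.Opens} {V : Q.Opens} (h : V ≤ f ⁻¹ᵁ U) (b : B) :
    ap f h (rho π U b) = rho (f ≫ π) V b :=
  ap_ap π f (U := ⊤) (V := U) (fun _ _ => trivial) h ((Scheme.ΓSpecIso (CommRingCat.of B)).inv b)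

theorem rho_of_sq {C : Type u} [CommRing C] {Q : Scheme.{u}} (f : Q ⟶ P) (q : Q ⟶ Spec (CommRingCat.of C)) (φ : B →+* C)
    (w : f ≫ π = q ≫ Spec.map (CommRingCat.ofHom φ)) (V : Q.Opens) (b : B) : rho (f ≫ π) V b = rho q V (φ b) := by
  rw [w]
  refine (ap_rho (Spec.map (CommRingCat.ofHom φ)) q (U := ⊤) (V := V) (fun _ _ => trivial) b).symm.trans ?_
  show ap q _ ((Spec.map (CommRingCat.ofHom φ)).appLE ⊤ ⊤ _ ((Scheme.ΓSpecIso (CommRingCat.of B)).inv b)) =
    ap q _ ((Scheme.ΓSpecIso (CommRingCat.of C)).inv (φ b))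
  refine congrArg _ ?_
  rw [show (Spec.map (CommRingCat.ofHom φ)).appLE ⊤ ⊤ (fun _ _ => trivial) = (Spec.map (CommRingCat.ofHom φ)).appTop by
    simp [Scheme.Hom.appLE]]
  exact congr($(Scheme.ΓSpecIso_inv_naturality (CommRingCat.ofHom φ)) b).symm

theorem rho_flat [Flat π] {U : P.Opens} (hU : IsAffineOpen U) : (rho π U).Flat := by
  refine RingHom.Flat.comp (RingHom.Flat.of_bijective ?_) ?_
  · exact ConcreteCategory.bijective_of_isIso (Scheme.ΓSpecIso (CommRingCat.of B)).inv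
  · exact HasRingHomProperty.appLE @Flat π inferInstance ⟨⊤, isAffineOpen_top _⟩ ⟨U, hU⟩ _

section Eps

variable [IsLocalRing B] {ε : B} (hm : ∀ a ∈ IsLocalRing.maximalIdeal B, a * ε = 0)

include hm in
theorem rho_mul_eq_zero {U : P.Opens} {x : Γ(P, U)} (hx : x ∈ (IsLocalRing.maximalIdeal B).map (rho π U)) :
    rho π U ε * x = 0 := by
  have h : (IsLocalRing.maximalIdeal B).map (rho π U) ≤ LinearMap.ker (LinearMap.mulLeft Γ(P, U) (rho π U ε)) :=
    Ideal.map_le_iff_le_comap.2 fun a ha => by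
      show rho π U ε * rho π U a = 0
      rw [← map_mul, mul_comm, hm a ha, map_zero]
  exact h hx

include hm in
theorem mem_of_rho_mul_eq_zero [Flat π] (hε : ε ≠ 0) {U : P.Opens} (hU : IsAffineOpen U) {x : Γ(P, U)}
    (hx : rho π U ε * x = 0) : x ∈ (IsLocalRing.maximalIdeal B).map (rho π U) := by
  letI : Algebra B Γ(P, U) := (rho π U).toAlgebra
  haveI : Module.Flat B Γ(P, U) := RingHom.flat_algebraMap_iff.1 (rho_flat π hU)
  have hex : Function.Exact (IsLocalRing.maximalIdeal B).subtype (LinearMap.mulLeft B ε) := fun a => by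
    constructor
    · intro ha
      refine ⟨⟨a, ?_⟩, rfl⟩
      by_contra hau
      exact hε ((IsLocalRing.notMem_maximalIdeal.1 hau).mul_left_eq_zero.1 ha)
    · rintro ⟨⟨a, ha⟩, rfl⟩
      show ε * a = 0
      rw [mul_comm]; exact hm a ha
  obtain ⟨t, ht⟩ := (Module.Flat.lTensor_exact Γ(P, U) hex (x ⊗ₜ[B] 1)).1 (by
    refine (TensorProduct.rid B Γ(P, U)).injective ?_
    rw [map_zero, LinearMap.lTensor_tmul, TensorProduct.rid_tmul]
    show rho π U (ε * 1) * x = 0
    rw [mul_one]; exact hx)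
  have key : ∀ t : Γ(P, U) ⊗[B] IsLocalRing.maximalIdeal B,
      TensorProduct.rid B Γ(P, U) ((IsLocalRing.maximalIdeal B).subtype.lTensor _ t) ∈
        (IsLocalRing.maximalIdeal B).map (rho π U) := by
    intro t
    induction t using TensorProduct.induction_on with
    | zero => simp
    | add a b ha hb => rw [map_add, map_add]; exact add_mem ha hb
    | tmul a b =>
      rw [LinearMap.lTensor_tmul, TensorProduct.rid_tmul, Submodule.subtype_apply, Algebra.smul_def]
      exact Ideal.mul_mem_right _ _ (Ideal.mem_map_of_mem _ b.2)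
  have h := key t
  rwa [ht, TensorProduct.rid_tmul, one_smul] at h

end Eps

section Fibre

variable [IsLocalRing B] {Q : Scheme.{u}} {j : Q ⟶ P} {pQ : Q ⟶ Spec (CommRingCat.of (IsLocalRing.ResidueField B))}
  (hκ : IsPullback j pQ π (Spec.map (CommRingCat.ofHom (IsLocalRing.residue B))))

include hκ in
theorem ap_eq_zero_iff {U : P.Opens} (hU : IsAffineOpen U) (x : Γ(P, U)) :
    ap j (le_refl (j ⁻¹ᵁ U)) x = 0 ↔ x ∈ (IsLocalRing.maximalIdeal B).map (rho π U) := by
  have h := (ArtFunLib.HilbAffine.ker_appLE_of_isPullback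
    (φ := CommRingCat.ofHom (IsLocalRing.residue B)) IsLocalRing.residue_surjective hκ ⟨U, hU⟩ _ rfl le_rfl).2
  rw [CommRingCat.hom_ofHom, IsLocalRing.ker_residue] at h
  exact (RingHom.mem_ker (f := ap j (le_refl (j ⁻¹ᵁ U)))).symm.trans (SetLike.ext_iff.1 h x)

end Fibre

section Thick

variable (ε : B) {P' : Scheme.{u}} {i : P' ⟶ P} {p' : P' ⟶ Spec (CommRingCat.of (B ⧸ Ideal.span {ε}))}
  (hi : IsPullback i p' π (Spec.map (CommRingCat.ofHom (Ideal.Quotient.mk (Ideal.span {ε})))))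

include hi in
theorem exists_eq_rho_mul {U : P.Opens} (hU : IsAffineOpen U) (x : Γ(P, U)) (hx : ap i (le_refl (i ⁻¹ᵁ U)) x = 0) :
    ∃ y, x = rho π U ε * y := by
  have h := (ArtFunLib.HilbAffine.ker_appLE_of_isPullback
    (φ := CommRingCat.ofHom (Ideal.Quotient.mk (Ideal.span {ε}))) Ideal.Quotient.mk_surjective hi ⟨U, hU⟩ _ rfl le_rfl).2
  rw [CommRingCat.hom_ofHom, Ideal.mk_ker] at h
  have h' := (SetLike.ext_iff.1 h x).1 hx
  change x ∈ Ideal.map (rho π U) _ at h'
  rw [Ideal.map_span, Set.image_singleton] at h'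
  exact Ideal.mem_span_singleton.1 h'

include hi in
theorem ap_rho_self {U : P.Opens} {V : P'.Opens} (h : V ≤ i ⁻¹ᵁ U) : ap i h (rho π U ε) = 0 := by
  refine (ap_rho π i h ε).trans ((rho_of_sq π i p' _ hi.w V ε).trans ?_)
  rw [Ideal.Quotient.eq_zero_iff_mem.2 (Ideal.mem_span_singleton_self ε), map_zero]

include hi in
theorem surjective_of_sq_zero (h2 : ε * ε = 0) : Surjective i := by
  refine MorphismProperty.of_isPullback (P := @Surjective) hi.flip ⟨fun (p : PrimeSpectrum B) => ?_⟩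
  have hr : p ∈ Set.range (PrimeSpectrum.comap (Ideal.Quotient.mk (Ideal.span {ε}))) := by
    rw [range_comap_of_surjective _ _ Ideal.Quotient.mk_surjective, Ideal.mk_ker, PrimeSpectrum.zeroLocus_span]
    intro a ha
    rw [Set.mem_singleton_iff] at ha
    subst ha
    exact (p.isPrime.mem_or_mem (h2 ▸ p.asIdeal.zero_mem)).elim id id
  exact hr

end Thick

/-- A small extension step. -/
theorem triv_eps [IsLocalRing B] [IsSeparated π] [Flat π] {ε : B} (hm : ∀ a ∈ IsLocalRing.maximalIdeal B, a * ε = 0)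
    (hε : ε ≠ 0) (hεm : ε ∈ IsLocalRing.maximalIdeal B)
    {P' Q : Scheme.{u}} {i : P' ⟶ P} {p' : P' ⟶ Spec (CommRingCat.of (B ⧸ Ideal.span {ε}))}
    (hi : IsPullback i p' π (Spec.map (CommRingCat.ofHom (Ideal.Quotient.mk (Ideal.span {ε})))))
    {j : Q ⟶ P} {pQ : Q ⟶ Spec (CommRingCat.of (IsLocalRing.ResidueField B))}
    (hκ : IsPullback j pQ π (Spec.map (CommRingCat.ofHom (IsLocalRing.residue B))))
    {J : Type u} (U : J → P.Opens) (hU : ∀ a, IsAffineOpen (U a)) (hcov : ∀ x, ∃ a, x ∈ U a)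
    {N : Type} {Sl Sl' Slκ : N → Scheme.{u}} (τ : ∀ s, Sl s ⟶ P) [∀ s, IsClosedImmersion (τ s)] [∀ s, Flat (τ s ≫ π)]
    (is : ∀ s, Sl' s ⟶ Sl s) (ps : ∀ s, Sl' s ⟶ Spec (CommRingCat.of (B ⧸ Ideal.span {ε})))
    (his : ∀ s, IsPullback (is s) (ps s) (τ s ≫ π) (Spec.map (CommRingCat.ofHom (Ideal.Quotient.mk (Ideal.span {ε})))))
    (hΓ : ∀ s, Function.Surjective (ps s).appTop)
    (js : ∀ s, Slκ s ⟶ Sl s) (qs : ∀ s, Slκ s ⟶ Spec (CommRingCat.of (IsLocalRing.ResidueField B)))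
    (hjs : ∀ s, IsPullback (js s) (qs s) (τ s ≫ π) (Spec.map (CommRingCat.ofHom (IsLocalRing.residue B))))
    (τκ : ∀ s, Slκ s ⟶ Q) (hτκ : ∀ s, τκ s ≫ j = js s ≫ τ s)
    (hH : ∀ c : ∀ a b, Γ(Q, j ⁻¹ᵁ U a ⊓ j ⁻¹ᵁ U b), IsCocycle (fun a => j ⁻¹ᵁ U a) c →
      (∀ s, IsCobound (fun a => τκ s ⁻¹ᵁ (j ⁻¹ᵁ U a)) (pullC (fun a => j ⁻¹ᵁ U a) (τκ s) c)) →
        IsCobound (fun a => j ⁻¹ᵁ U a) c)
    {L : P.Modules} (hL : PicF.IsInvertible L) (h' : Triv ((Scheme.Modules.pullback i).obj L))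
    (hσ : ∀ s, Triv ((Scheme.Modules.pullback (τ s)).obj L)) : Triv L := by
  classical
  haveI : P.IsSeparated := ⟨by rw [← Limits.terminal.comp_from π]; infer_instance⟩
  haveI hic : IsClosedImmersion i := MorphismProperty.of_isPullback (P := @IsClosedImmersion) hi.flip
    (IsClosedImmersion.spec_of_surjective _ Ideal.Quotient.mk_surjective)
  haveI hjc : IsClosedImmersion j := MorphismProperty.of_isPullback (P := @IsClosedImmersion) hκ.flip
    (IsClosedImmersion.spec_of_surjective _ IsLocalRing.residue_surjective)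
  have h2 : ε * ε = 0 := hm ε hεm
  have hisur : Function.Surjective i := (surjective_of_sq_zero π ε hi h2).surj
  have hsq : ∀ {W : P.Opens} (u v : Γ(P, W)), (rho π W ε * u) * (rho π W ε * v) = 0 := fun {W} u v => by
    rw [mul_mul_mul_comm, ← map_mul, h2, map_zero, zero_mul]
  obtain ⟨e₀, he₀⟩ := h'.exists_frame
  -- frames
  have hframe : ∀ a, ∃ e : Γ(L, U a), IsFrame e ∧ pullElt i e = AModX.res _ le_top e₀ := by
    intro a
    obtain ⟨e, he⟩ := InfLift.exists_lift (ProjUPX.isQCoh_of_isInvertible hL) i (hU a) (AModX.res _ le_top e₀)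
    exact ⟨e, InfLift.isFrame_of_pullElt hL i hisur e (he ▸ he₀.res le_top), he⟩
  choose e he hei using hframe
  -- transition functions
  have hg := fun a b => (he a).exists_coord (inf_le_left : U a ⊓ U b ≤ U a) (AModX.res L inf_le_right (e b))
  choose g hg using hg
  have hUU : ∀ a b, IsAffineOpen (U a ⊓ U b) := fun a b => (hU a).inf (hU b)
  have hg1 : ∀ a b, ap i (le_refl (i ⁻¹ᵁ (U a ⊓ U b))) (g a b) = 1 := by
    intro a b
    have h1 := congrArg (fun t => pullElt i t) (hg a b)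
    simp only [ap_pullElt, ← res_pullElt, hei, AModX.res_res] at h1
    refine he₀.coord_unique le_top (?_ : _ • AModX.res _ le_top e₀ =
      (1 : Γ(P', i ⁻¹ᵁ (U a ⊓ U b))) • AModX.res _ le_top e₀)
    rw [one_smul]
    exact h1.symm
  have hx : ∀ a b, ∃ x, g a b - 1 = rho π (U a ⊓ U b) ε * x := fun a b =>
    exists_eq_rho_mul π ε hi (hUU a b) _ (by rw [map_sub, hg1, map_one, sub_self])
  choose x hx using hx
  -- the cocycle on the closed fibre
  let c : ∀ a b, Γ(Q, j ⁻¹ᵁ U a ⊓ j ⁻¹ᵁ U b) := fun a b => ap j (Scheme.Hom.preimage_inf j).ge (x a b)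
  have hres : ∀ {a b : J} {W : P.Opens} (h : W ≤ U a ⊓ U b),
      AModX.resR h (g a b) = 1 + rho π W ε * AModX.resR h (x a b) := fun {a b W} h => by
    rw [← resR_rho π h, ← map_mul, ← hx, map_sub, map_one]; ring
  have hfib : ∀ {W : P.Opens} (_ : IsAffineOpen W) (u : Γ(P, W)) (Z : Q.Opens) (hZ : Z ≤ j ⁻¹ᵁ W),
      rho π W ε * u = 0 → ap j hZ u = 0 := fun {W} hW u Z hZ h0 => by
    rw [← resR_ap j (le_refl (j ⁻¹ᵁ W)) hZ,
      (ap_eq_zero_iff π hκ hW u).2 (mem_of_rho_mul_eq_zero π hm hε hW h0), map_zero]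
  have hcoc : IsCocycle (fun a => j ⁻¹ᵁ U a) c := by
    intro a b d Z h₁ h₂ h₃
    let W := U a ⊓ U b ⊓ U d
    have hab : W ≤ U a ⊓ U b := inf_le_left
    have hbd : W ≤ U b ⊓ U d := fun z hz => ⟨hz.1.2, hz.2⟩
    have had : W ≤ U a ⊓ U d := fun z hz => ⟨hz.1.1, hz.2⟩
    have hW : IsAffineOpen W := (hUU a b).inf (hU d)
    have h4 := congrArg (AModX.res L hbd) (hg b d)
    have h5 := congrArg (AModX.res L hab) (hg a b)
    have h6 := congrArg (AModX.res L had) (hg a d)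
    rw [AModX.res_smul, AModX.res_res, AModX.res_res] at h4 h5 h6
    rw [h5, ← mul_smul, h6] at h4
    have hmul := (he a).coord_unique (show W ≤ U a from fun z hz => hz.1.1) h4
    rw [hres hab, hres hbd, hres had] at hmul
    have h0 : rho π W ε * (AModX.resR hab (x a b) + AModX.resR hbd (x b d) - AModX.resR had (x a d)) = 0 := by
      linear_combination -hmul - hsq (AModX.resR hbd (x b d)) (AModX.resR hab (x a b))
    have hZ : Z ≤ j ⁻¹ᵁ W := fun z hz => ⟨⟨(h₁ hz).1, (h₁ hz).2⟩, (h₂ hz).2⟩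
    have := hfib hW _ Z hZ h0
    rw [map_sub, map_add, sub_eq_zero, ap_resR, ap_resR, ap_resR] at this
    simp only [c, resR_ap]
    exact this
  -- slices
  have hsl : ∀ s, IsCobound (fun a => τκ s ⁻¹ᵁ (j ⁻¹ᵁ U a)) (pullC (fun a => j ⁻¹ᵁ U a) (τκ s) c) := by
    intro s
    let t := τ s
    let V : J → (Sl s).Opens := fun a => t ⁻¹ᵁ U a
    have hV : ∀ a, IsAffineOpen (V a) := fun a => (hU a).preimage _
    haveI : (Sl s).IsSeparated := ⟨by rw [← Limits.terminal.comp_from t]; infer_instance⟩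
    haveI hisc : IsClosedImmersion (is s) := MorphismProperty.of_isPullback (P := @IsClosedImmersion) (his s).flip
      (IsClosedImmersion.spec_of_surjective _ Ideal.Quotient.mk_surjective)
    have hissur : Function.Surjective (is s) := (surjective_of_sq_zero (t ≫ π) ε (his s) h2).surj
    obtain ⟨f, hf⟩ := (hσ s).exists_frame
    have hfr : ∀ a, IsFrame (pullElt t (e a)) := fun a => isFrame_pullElt t (he a)
    have hh := fun a => (hfr a).exists_coord le_rfl (AModX.res _ (le_top : V a ≤ ⊤) f)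
    choose h hh using hh
    simp only [AModX.res_self] at hh
    let γ : ∀ a b, Γ(Sl s, V a ⊓ V b) := fun a b => ap t (Scheme.Hom.preimage_inf t).ge (g a b)
    have hrel : ∀ a b, AModX.resR inf_le_right (h b) * γ a b = AModX.resR inf_le_left (h a) := by
      intro a b
      refine (hfr a).coord_unique (inf_le_left : V a ⊓ V b ≤ V a) ?_
      have h1 := congrArg (AModX.res _ (inf_le_left : V a ⊓ V b ≤ V a)) (hh a)
      have h2' := congrArg (AModX.res _ (inf_le_right : V a ⊓ V b ≤ V b)) (hh b)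
      rw [AModX.res_smul, AModX.res_res] at h1 h2'
      have h3 := congrArg (fun z => AModX.res _ (Scheme.Hom.preimage_inf t).ge (pullElt t z)) (hg a b)
      simp only [ap_pullElt, AModX.res_smul, ← res_pullElt, AModX.res_res] at h3
      rw [h3, ← mul_smul, h1] at h2'
      refine Eq.trans ?_ h2'.symm
      simp only [γ, resR_ap]
      rfl
    let u : ∀ a, Γ(Sl' s, is s ⁻¹ᵁ V a) := fun a => ap (is s) le_rfl (h a)
    have hγ1 : ∀ a b (Z : (Sl' s).Opens) (hZ : Z ≤ is s ⁻¹ᵁ (V a ⊓ V b)), ap (is s) hZ (γ a b) = 1 := by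
      intro a b Z hZ
      have hgx : g a b = 1 + rho π (U a ⊓ U b) ε * x a b := by rw [← hx]; ring
      simp only [γ, hgx, map_add, map_one, map_mul]
      rw [ap_rho π t (Scheme.Hom.preimage_inf t).ge, ap_rho_self (t ≫ π) ε (his s), zero_mul, add_zero]
    obtain ⟨G, hG, -⟩ := (Sl' s).sheaf.existsUnique_gluing' (fun a => is s ⁻¹ᵁ V a) ⊤
      (fun a => homOfLE le_top)
      (fun z _ => Opens.mem_iSup.2 ((hcov (t (is s z))).imp fun a ha => ha))
      u fun a b => by
        show AModX.resR (inf_le_left : is s ⁻¹ᵁ V a ⊓ is s ⁻¹ᵁ V b ≤ _) (u a) = AModX.resR inf_le_right (u b)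
        have h1 := congrArg (ap (is s) (Scheme.Hom.preimage_inf (is s)).ge) (hrel a b)
        rw [map_mul, hγ1 a b, mul_one, ap_resR, ap_resR] at h1
        simp only [u, resR_ap]
        exact h1.symm
    obtain ⟨q', hq'⟩ := hΓ s G
    obtain ⟨q, rfl⟩ : ∃ q : B, q' = (Scheme.ΓSpecIso _).inv (Ideal.Quotient.mk (Ideal.span {ε}) q) := by
      obtain ⟨r, hr⟩ := (ConcreteCategory.bijective_of_isIso (Scheme.ΓSpecIso (CommRingCat.of (B ⧸ Ideal.span {ε}))).inv).2 q'
      obtain ⟨q, rfl⟩ := Ideal.Quotient.mk_surjective r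
      exact ⟨q, hr.symm⟩
    have hQ : ∀ a, ap (is s) le_rfl (rho (t ≫ π) (V a) q) = u a := by
      intro a
      rw [← show AModX.resR le_top G = u a from hG a, ← hq']
      refine (ap_rho (t ≫ π) (is s) (le_refl (is s ⁻¹ᵁ V a)) q).trans ((rho_of_sq (t ≫ π) (is s) (ps s) _ (his s).w _ q).trans ?_)
      exact (resR_ap (ps s) (U := ⊤) (le_refl (⊤ : (Sl' s).Opens)) (le_top : is s ⁻¹ᵁ V a ≤ ⊤) _).symm.trans
        (congrArg _ (ap_eq_app (ps s) _))
    have hUh : ∀ a, IsUnit (h a) := fun a => by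
      obtain ⟨r', hr'⟩ := (hf.res (le_top : V a ≤ ⊤)).exists_coord le_rfl (pullElt t (e a))
      rw [AModX.res_self] at hr'
      refine IsUnit.of_mul_eq_one r' ((hfr a).coord_unique le_rfl ?_)
      rw [AModX.res_self, one_smul, mul_comm, mul_smul, ← hh a, ← hr']
    have hUQ : ∀ a, IsUnit (rho (t ≫ π) (V a) q) := fun a => by
      refine InfLift.isUnit_of_app (is s) hissur _ ?_
      rw [← ap_eq_app, hQ a]
      exact (hUh a).map _
    let h' : ∀ a, Γ(Sl s, V a) := fun a => ((hUQ a).unit⁻¹ : (Γ(Sl s, V a))ˣ) * h a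
    have hh1 : ∀ a, ap (is s) le_rfl (h' a) = 1 := fun a => by
      rw [map_mul, ← show ap (is s) le_rfl (rho (t ≫ π) (V a) q) = ap (is s) le_rfl (h a) from hQ a, ← map_mul,
        IsUnit.val_inv_mul, map_one]
    have hrel' : ∀ a b, AModX.resR inf_le_right (h' b) * γ a b = AModX.resR inf_le_left (h' a) := by
      intro a b
      refine ((hUQ a).map (AModX.resR (inf_le_left : V a ⊓ V b ≤ V a))).mul_left_cancel ?_
      rw [← mul_assoc]
      nth_rw 1 [resR_rho, ← resR_rho (t ≫ π) (inf_le_right : V a ⊓ V b ≤ V b)]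
      rw [← map_mul, ← map_mul, show rho (t ≫ π) (V b) q * h' b = h b by rw [← mul_assoc, IsUnit.mul_val_inv, one_mul],
        show rho (t ≫ π) (V a) q * h' a = h a by rw [← mul_assoc, IsUnit.mul_val_inv, one_mul], hrel]
    have hw := fun a => exists_eq_rho_mul (t ≫ π) ε (his s) (hV a) (h' a - 1) (by rw [map_sub, hh1, map_one, sub_self])
    choose w hw using hw
    have hsub : ∀ a, τκ s ⁻¹ᵁ (j ⁻¹ᵁ U a) ≤ js s ⁻¹ᵁ V a := fun a => by
      show τκ s ⁻¹ᵁ (j ⁻¹ᵁ U a) ≤ js s ⁻¹ᵁ (t ⁻¹ᵁ U a)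
      rw [← Scheme.Hom.comp_preimage, ← Scheme.Hom.comp_preimage, hτκ s]
    refine ⟨fun a => - ap (js s) (hsub a) (w a), fun a b => ?_⟩
    let W := V a ⊓ V b
    let Zs := τκ s ⁻¹ᵁ (j ⁻¹ᵁ U a) ⊓ τκ s ⁻¹ᵁ (j ⁻¹ᵁ U b)
    have hW : IsAffineOpen W := (hV a).inf (hV b)
    let xt : Γ(Sl s, W) := ap t (Scheme.Hom.preimage_inf t).ge (x a b)
    let wa : Γ(Sl s, W) := AModX.resR inf_le_left (w a)
    let wb : Γ(Sl s, W) := AModX.resR inf_le_right (w b)
    have hγx : γ a b = 1 + rho (t ≫ π) W ε * xt := by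
      have hgx : g a b = 1 + rho π (U a ⊓ U b) ε * x a b := by rw [← hx]; ring
      simp only [γ, hgx, map_add, map_one, map_mul, xt]
      rw [ap_rho π t (Scheme.Hom.preimage_inf t).ge]
    have hh'a : AModX.resR inf_le_left (h' a) = 1 + rho (t ≫ π) W ε * wa := by
      rw [← resR_rho (t ≫ π) (inf_le_left : W ≤ V a), ← map_mul, ← hw, map_sub, map_one]; ring
    have hh'b : AModX.resR inf_le_right (h' b) = 1 + rho (t ≫ π) W ε * wb := by
      rw [← resR_rho (t ≫ π) (inf_le_right : W ≤ V b), ← map_mul, ← hw, map_sub, map_one]; ring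
    have hsq' : (rho (t ≫ π) W ε * wb) * (rho (t ≫ π) W ε * xt) = 0 := by
      rw [mul_mul_mul_comm, ← map_mul, h2, map_zero, zero_mul]
    have h0 : rho (t ≫ π) W ε * (xt - (wa - wb)) = 0 := by
      have := hrel' a b
      rw [hγx, hh'a, hh'b] at this
      linear_combination this - hsq'
    have hZs : Zs ≤ js s ⁻¹ᵁ W := fun z hz => ⟨hsub a hz.1, hsub b hz.2⟩
    have hz := resR_ap (js s) (le_refl (js s ⁻¹ᵁ W)) hZs (xt - (wa - wb))
    rw [(ap_eq_zero_iff (t ≫ π) (hjs s) hW _).2 (mem_of_rho_mul_eq_zero (t ≫ π) hm hε hW h0), map_zero,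
      map_sub, map_sub, ap_resR, ap_resR, eq_comm, sub_eq_zero] at hz
    show ap (τκ s) _ (ap j _ (x a b)) = _
    rw [ap_ap, ap_congr (hτκ s) _ (hZs.trans ((js s).preimage_mono (Scheme.Hom.preimage_inf t).ge)),
      ← ap_ap t (js s) (Scheme.Hom.preimage_inf t).ge hZs]
    rw [map_neg, map_neg, resR_ap, resR_ap, hz]
    abel
  obtain ⟨H, hHc⟩ := hH c hcoc hsl
  have hy : ∀ a, ∃ y : Γ(P, U a), ap j (le_refl (j ⁻¹ᵁ U a)) y = H a := fun a => by
    obtain ⟨y, hy⟩ := j.app_surjective (U a) (hU a) (H a)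
    exact ⟨y, (ap_eq_app j y).trans hy⟩
  choose y hy using hy
  let ne : ∀ a, Γ(L, U a) := fun a => (1 - rho π (U a) ε * y a) • e a
  have hne : ∀ a, IsFrame (ne a) := fun a => (he a).isUnit_smul
    (IsUnit.of_mul_eq_one (1 + rho π (U a) ε * y a) (by linear_combination -hsq (y a) (y a)))
  obtain ⟨F, hF, -⟩ := AModX.existsUnique_glue (M := L) (V := ⊤) U (fun _ => le_top)
    (fun z _ => hcov z) ne fun a b => by
      let W := U a ⊓ U b
      let ya : Γ(P, W) := AModX.resR inf_le_left (y a)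
      let yb : Γ(P, W) := AModX.resR inf_le_right (y b)
      have hz : ap j (le_refl (j ⁻¹ᵁ W)) (x a b - (yb - ya)) = 0 := by
        have h1 := congrArg (AModX.resR (Scheme.Hom.preimage_inf j).le) (hHc a b)
        simp only [c, resR_ap, map_sub, ← hy, AModX.resR_resR] at h1
        rw [map_sub, map_sub, sub_eq_zero]
        refine h1.trans ?_
        congr 1 <;> exact (ap_resR j _ _ _).symm
      have h0 := rho_mul_eq_zero π hm ((ap_eq_zero_iff π hκ (hUU a b) _).1 hz)
      have hgab : g a b = 1 + rho π W ε * x a b := by rw [← hx]; ring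
      have hra : AModX.res L (inf_le_left : U a ⊓ U b ≤ U a) (ne a) =
          (1 - rho π W ε * ya) • AModX.res L (inf_le_left : U a ⊓ U b ≤ U a) (e a) := by
        rw [AModX.res_smul, map_sub, map_one, map_mul, resR_rho]
      have hrb : AModX.res L (inf_le_right : U a ⊓ U b ≤ U b) (ne b) =
          (1 - rho π W ε * yb) • AModX.res L (inf_le_right : U a ⊓ U b ≤ U b) (e b) := by
        rw [AModX.res_smul, map_sub, map_one, map_mul, resR_rho]
      rw [hra, hrb, hg a b, ← mul_smul, hgab]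
      congr 1
      linear_combination -h0 + hsq yb (x a b)
  refine triv_of_frame (e := F) (isFrame_of_germwise fun z _ => ?_)
  obtain ⟨a, ha⟩ := hcov z
  refine ⟨U a, le_top, ha, ?_⟩
  rw [hF]
  exact hne a

end Groth.Agent.SeesawGen.Eps
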